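import Cfsg.Agent.Lib.InvChar.HeRec.BFrame.Coords

/-!
# The tables of the elements of order seven and three
-/

set_option autoImplicit false
set_option maxRecDepth 100000
set_option linter.style.haveILetI false

namespace CfsgLib.InvChar.HeRec.BFrame

open Subgroup CModel

theorem tabX_gens : look (tabX.getD 1 0) 1 = 2 ∧ look (tabX.getD 2 0) 1 = 4 ∧ look (tabX.getD 1 0) 8 = 16 ∧
    look (tabX.getD 2 0) 8 = 32 ∧ qmul 1 4 = 5 ∧ qmul 8 16 = 24 := by decide +kernel

variable {H : Type*} [Group H] [Finite H] {π : H →* L168} {z x a b : H} (C : Ctx π z) (D : Halves π z x a b)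
include C D

theorem Halves.phi_surj (hx : x ^ 7 = 1) {h : H} (hh : h ∈ π.ker) : ∃ q < 128, phi z x a b q = h := by
  let f : Fin 128 → π.ker := fun q => ⟨phi z x a b q, D.phi_mem C _⟩
  have hinj : Function.Injective f := fun p q e => Fin.ext (D.phi_inj C hx p.2 q.2 (congrArg Subtype.val e))
  have hbij := (Nat.bijective_iff_injective_and_card f).2 ⟨hinj, by rw [C.card, Nat.card_fin]; norm_num⟩
  obtain ⟨q, hq⟩ := hbij.2 ⟨h, hh⟩
  exact ⟨q, q.2, congrArg Subtype.val hq⟩

omit [Finite H] in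
theorem Halves.conj_x (hx : x ^ 7 = 1) : ∀ i < 7, ∀ q < 128,
    sh x i (phi z x a b q) = phi z x a b (look (tabX.getD i 0) q) := by
  obtain ⟨g0, g1, g2, g4, g8, g16, g32, g64⟩ := phi_gens z x a b
  have h1 : ∀ q < 128, sh x 1 (phi z x a b q) = phi z x a b (look (tabX.getD 1 0) q) := fun q hq => by
    rw [tabX_fold q hq, sh, pow_one]
    refine D.conj_phi C hx x [2, 4, 5, 16, 32, 24] (fun k => ?_) (fun k hk => ?_) hq
    · by_cases hk : k < 6
      · interval_cases k <;> decide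
      · rw [List.getD_eq_default _ _ (by simp; omega)]; norm_num
    · have e : ∀ p, x * p * x⁻¹ = sh x 1 p := fun p => by rw [sh, pow_one]
      have h5 : phi z x a b 5 = a * sh x 2 a := by
        rw [← tabX_gens.2.2.2.2.1, D.phi_mul C hx (by norm_num) (by norm_num), g1, g4]
      have h24 : phi z x a b 24 = b * sh x 1 b := by
        rw [← tabX_gens.2.2.2.2.2, D.phi_mul C hx (by norm_num) (by norm_num), g8, g16]
      rw [e]
      interval_cases k <;> norm_num [g1, g2, g4, g8, g16, g32, h5, h24, sh_sh, D.eA, D.eB]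
  intro i
  induction i with
  | zero => intro _ q hq; rw [sh_zero, tabX_zero q hq]
  | succ i ih =>
    intro hi q hq
    rw [Nat.add_comm, ← sh_sh, ih (by omega) q hq, h1 _ (look_lt _ _), Nat.add_comm 1,
      ← tabX_succ i (by omega) q hq]

omit [Finite H] in
/-- Shifting both generators. -/
theorem Halves.shift (hx : x ^ 7 = 1) (k : ℕ) : Halves π z x (sh x k a) (sh x k b) where
  ka := sh_mem x _ D.ka
  kb := sh_mem x _ D.kb
  a2 := by rw [← sh_mul, D.a2]; simp [sh]
  b2 := by rw [← sh_mul, D.b2]; simp [sh]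
  eA := by rw [sh_sh, Nat.add_comm, ← sh_sh, D.eA, sh_mul, sh_sh, sh_sh, Nat.add_comm 2]
  eB := by rw [sh_sh, Nat.add_comm, ← sh_sh, D.eB, sh_mul, sh_sh, sh_sh, Nat.add_comm 1]
  aa i := by rw [sh_sh, Nat.add_comm, ← sh_sh, C.cm_sh x k D.ka (sh_mem x _ D.ka), D.aa]
  bb i := by rw [sh_sh, Nat.add_comm, ← sh_sh, C.cm_sh x k D.kb (sh_mem x _ D.kb), D.bb]
  ab i := by rw [sh_sh, Nat.add_comm, ← sh_sh, C.cm_sh x k D.kb (sh_mem x _ D.ka), D.ab]

omit D [Finite H] in
theorem conj_sh {y : H} (hyx : y * x * y⁻¹ = x ^ 2) (n : ℕ) (p : H) :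
    y * sh x n p * y⁻¹ = sh x (2 * n) (y * p * y⁻¹) := by
  have hn : y * x ^ n * y⁻¹ = x ^ (2 * n) := by rw [← conj_pow, hyx, ← pow_mul]
  simp only [sh, ← hn]
  group

omit D [Finite H] in
theorem Ctx.fix_three {y w : H} (hy : y ^ 3 = 1) (h : zeq z (y * w * y⁻¹) w) : y * w * y⁻¹ = w := by
  rcases h with h | h
  · exact h
  exfalso
  have hz : ∀ g : H, g * z * g⁻¹ = z := fun g => by rw [C.zcen, mul_inv_cancel_right]
  have h3 : y ^ 3 * w * (y ^ 3)⁻¹ = w * z * z * z := by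
    have e : y ^ 3 * w * (y ^ 3)⁻¹ = MulAut.conj y (MulAut.conj y (MulAut.conj y w)) := by
      simp only [MulAut.conj_apply, pow_succ, pow_zero, one_mul]; group
    have hw' : MulAut.conj y w = w * z := h
    have hz' : MulAut.conj y z = z := hz y
    rw [e, hw', map_mul, hw', hz', map_mul, map_mul, hw', hz']
  rw [hy, one_mul, inv_one, mul_one, mul_assoc w z z, C.zz, mul_one] at h3
  exact C.z1 (mul_eq_left.1 h3.symm)

omit D in
/-- The generators can be chosen fixed by the element of order three. -/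
theorem Ctx.exists_fixed_halves {y : H} (hx : x ^ 7 = 1) (hxL : π x ≠ 1) (hy : y ^ 3 = 1)
    (hyx : y * x * y⁻¹ = x ^ 2) :
    ∃ a b : H, Halves π z x a b ∧ y * a * y⁻¹ = a ∧ y * b * y⁻¹ = b := by
  obtain ⟨a, b, D⟩ := C.exists_halves hx hxL
  have ky : ∀ p ∈ π.ker, y * p * y⁻¹ ∈ π.ker := fun p hp => (MonoidHom.normal_ker π).conj_mem p hp y
  have zeq_of : ∀ p q : ℕ, p < 128 → q < 128 → p % 64 = q % 64 → ∀ {a b : H}, Halves π z x a b →
      zeq z (phi z x a b p) (phi z x a b q) := fun p q hp hq h a b D => by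
    rcases code_cases p hp q hq h with rfl | ⟨h1, -⟩
    · exact Or.inl rfl
    · exact Or.inr (by rw [h1, D.phi_mul C hx hq (by norm_num), (phi_gens z x a b).2.2.2.2.2.2.2])
  -- the image of a generator is congruent to one of its shifts
  have img : ∀ {a b : H}, Halves π z x a b → ∀ (p : H), p ∈ π.ker → (∃ r ∈ π.ker, cm p r = true) →
      ∀ d c : ℕ, (d = 2 ∧ c = 1 ∨ d = 1 ∧ c = 8) → sh x 3 p = p * sh x d p →
      ∃ m < 7, zeq z (y * p * y⁻¹) (sh x m (phi z x a b c)) := by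
    intro a b D p hp hne d c hdc he
    obtain ⟨q, hq, hu⟩ := D.phi_surj C hx (ky p hp)
    have h6 : sh x 6 (y * p * y⁻¹) = y * p * y⁻¹ * sh x (2 * d) (y * p * y⁻¹) := by
      rw [← conj_sh C hyx d p, ← conj_sh C hyx 3 p, he]; group
    have hd : 2 * d < 7 := by omega
    have hc : c < 128 := by omega
    rw [← hu, D.conj_x C hx _ (by norm_num) q hq, D.conj_x C hx _ hd q hq, ← D.phi_mul C hx hq (look_lt _ _)] at h6
    have h7 := D.phi_inj C hx (look_lt _ _) (qmul_lt _ _) h6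
    have hcase : q % 64 = 0 ∨ ∃ m < 7, q % 64 = look (tabX.getD m 0) c % 64 := by
      rcases hdc with ⟨rfl, rfl⟩ | ⟨rfl, rfl⟩
      · exact y_image_A q hq h7
      · exact y_image_B q hq h7
    rcases hcase with h0 | ⟨m, hm, h0⟩
    · exfalso
      obtain ⟨r, hr, hcr⟩ := hne
      have hz := zeq_of q 0 hq (by norm_num) h0 D
      rw [(phi_gens z x a b).1, hu] at hz
      have : cm (y * p * y⁻¹) (y * r * y⁻¹) = false := by
        rw [C.cm_zeq (one_mem _) (ky r hr) hz]; exact C.cm_zb (b := false) (ky r hr)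
      rw [C.cm_conj y hp hr, hcr] at this
      exact Bool.noConfusion this
    · refine ⟨m, hm, ?_⟩
      rw [← hu, D.conj_x C hx m hm c hc]
      exact zeq_of q _ hq (look_lt _ _) h0 D
  have g1 : phi z x a b 1 = a := (phi_gens z x a b).2.1
  have nea : ∀ {a b : H}, Halves π z x a b → ∃ r ∈ π.ker, cm a r = true := fun {a b} D =>
    ⟨b, D.kb, by rw [C.cm_symm D.kb D.ka, ← sh_zero x a, D.ab]; rfl⟩
  have neb : ∀ {a b : H}, Halves π z x a b → ∃ r ∈ π.ker, cm b r = true := fun {a b} D =>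
    ⟨a, D.ka, by rw [← sh_zero x a, D.ab]; rfl⟩
  obtain ⟨m, hm, hym⟩ := img D a D.ka (nea D) 2 1 (Or.inl ⟨rfl, rfl⟩) D.eA
  rw [g1] at hym
  -- shift so that `a` is fixed
  have D' := D.shift C hx (7 - m)
  set a' := sh x (7 - m) a with ha'
  set b' := sh x (7 - m) b
  have hya : y * a' * y⁻¹ = a' := by
    refine C.fix_three hy ?_
    rw [ha', conj_sh C hyx]
    have h1 : zeq z (sh x (2 * (7 - m)) (y * a * y⁻¹)) (sh x (2 * (7 - m)) (sh x m a)) := by
      rcases hym with h | h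
      · exact Or.inl (by rw [h])
      · exact Or.inr (by rw [h, sh_mul]; congr 1; rw [sh, C.zcen, mul_inv_cancel_right])
    rw [sh_sh, ← sh_mod hx (2 * (7 - m) + m), show (2 * (7 - m) + m) % 7 = (7 - m) % 7 by omega,
      sh_mod hx] at h1
    exact h1
  obtain ⟨k, hk, hyk⟩ := img D' b' D'.kb (neb D') 1 8 (Or.inr ⟨rfl, rfl⟩) D'.eB
  rw [(phi_gens z x a' b').2.2.2.2.1] at hyk
  have hk0 : k = 0 := shift_unique k hk fun i hi => by
    have h1 := C.cm_conj y D'.kb (sh_mem x i D'.ka)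
    rw [conj_sh C hyx i a', hya, C.cm_zeq (sh_mem x _ D'.kb) (sh_mem x _ D'.ka) hyk, D'.ab,
      C.cm_sh_sub hx D'.kb D'.ka, D'.ab, Nat.mod_eq_of_lt hi] at h1
    rw [← h1]
    congr 1
    omega
  refine ⟨a', b', D', hya, C.fix_three hy ?_⟩
  rwa [hk0, sh_zero] at hyk

omit [Finite H] in
theorem Halves.conj_y (hx : x ^ 7 = 1) {y : H} (hyx : y * x * y⁻¹ = x ^ 2) (hya : y * a * y⁻¹ = a)
    (hyb : y * b * y⁻¹ = b) : ∀ j < 3, ∀ q < 128,
    y ^ j * phi z x a b q * (y ^ j)⁻¹ = phi z x a b (look (tabY.getD j 0) q) := by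
  obtain ⟨g0, g1, g2, g4, g8, g16, g32, g64⟩ := phi_gens z x a b
  have h1 : ∀ q < 128, y * phi z x a b q * y⁻¹ = phi z x a b (look (tabY.getD 1 0) q) := fun q hq => by
    rw [tabY_fold q hq]
    refine D.conj_phi C hx y _ (fun k => ?_) (fun k hk => ?_) hq
    · by_cases hk : k < 6
      · interval_cases k <;> simp [look_lt]
      · rw [List.getD_eq_default _ _ (by simp; omega)]; norm_num
    · have e2 : ∀ n p, n < 7 → ∀ q < 128, phi z x a b q = p → phi z x a b (look (tabX.getD n 0) q) = sh x n p :=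
        fun n p hn q hq hp => by rw [← D.conj_x C hx n hn q hq, hp]
      interval_cases k <;>
        simp [Nat.reduceMul, -List.getD_eq_getElem?_getD, List.getD_cons_zero, List.getD_cons_succ, g1, g2, g4, g8, g16, g32, conj_sh C hyx, hya, hyb, e2 2 a (by norm_num) 1 (by norm_num) g1,
          e2 4 a (by norm_num) 1 (by norm_num) g1, e2 2 b (by norm_num) 8 (by norm_num) g8,
          e2 4 b (by norm_num) 8 (by norm_num) g8]
  intro j hj q hq
  interval_cases j
  · rw [pow_zero, one_mul, inv_one, mul_one, (tabY_rest q hq).1]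
  · rw [pow_one]; exact h1 q hq
  · rw [(tabY_rest q hq).2, ← h1 _ (look_lt _ _), ← h1 q hq, pow_two]; group

end CfsgLib.InvChar.HeRec.BFrame
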