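import Cfsg.Agent.Lib.InvChar.HeRec.BFrame.Classify
import Mathlib.GroupTheory.Index
import Mathlib.GroupTheory.QuotientGroup.Basic

/-!
# The multiplication of a candidate realised in the group
-/

set_option autoImplicit false
set_option maxRecDepth 100000

namespace CfsgLib.InvChar.HeRec.BFrame

open Subgroup CModel

theorem lmul_lt : ∀ n < 168, ∀ m < 168, lmul n m < 168 := by decide +kernel

theorem lbit_le : ∀ n < 168, ∀ m < 168, lbit 1 n m ≤ 1 ∧ lbit 0 n m = 0 := by decide +kernel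

theorem tabW_rel : ∀ u < 2, ∀ q < 128, look (tabW u) (look (tabW u) q) = q ∧
    look (tabX.getD 1 0) (look (tabW u) (look (tabX.getD 1 0) (look (tabW u) (look (tabX.getD 1 0) (look (tabW u) q))))) =
      q := by decide +kernel

theorem l_rel' : (lX⁻¹ * lW) ^ 3 = 1 ∧ (lX * lW) ^ 3 = 1 := by decide +kernel

theorem l_gen' : ∀ M : L168, ∃ i : Fin 7, ∃ j : Fin 3, M = lX⁻¹ ^ i.val * lY ^ j.val ∨
    ∃ k : Fin 7, M = lX⁻¹ ^ i.val * lY ^ j.val * lW * lX⁻¹ ^ k.val := by decide +kernel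

theorem card_L168 : Nat.card L168 = 168 := by
  rw [Nat.card_eq_fintype_card]; decide +kernel

/-- The relations of a frame. -/
structure Rel {H : Type*} [Group H] (z : H) (φ : ℕ → H) (u : ℕ) (e : Bool) (x y w : H) : Prop where
  zcen : ∀ h : H, h * z = z * h
  zz : z * z = 1
  x7 : x ^ 7 = 1
  y3 : y ^ 3 = 1
  yx : y * x * y⁻¹ = x ^ 2
  wy : w * y * w⁻¹ = y⁻¹
  ww : w * w = zb z e
  xw : (x * w) ^ 3 = 1
  mul : ∀ p < 128, ∀ q < 128, φ (qmul p q) = φ p * φ q
  bit : φ 0 = 1 ∧ φ 64 = z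
  cx : ∀ i < 7, ∀ q < 128, x ^ i * φ q * (x ^ i)⁻¹ = φ (look (tabX.getD i 0) q)
  cy : ∀ j < 3, ∀ q < 128, y ^ j * φ q * (y ^ j)⁻¹ = φ (look (tabY.getD j 0) q)
  cw : ∀ q < 128, w * φ q * w⁻¹ = φ (look (tabW u) q)

variable {H : Type*} [Group H] {z : H} {φ : ℕ → H} {u : ℕ} {e : Bool} {x y w : H}

/-- The part `w * x ^ (κ - 1)`. -/
def tailOf (x w : H) (κ : ℕ) : H := if κ = 0 then 1 else w * x ^ (κ - 1)

/-- The element with index `n`. -/
def lamOf (x y w : H) (n : ℕ) : H := x ^ (n % 7) * y ^ (n / 7 % 3) * tailOf x w (n / 21)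

/-- The element with a code. -/
def psiOf (φ : ℕ → H) (x y w : H) (c : ℕ) : H := φ (c % 128) * lamOf x y w (c / 128)

variable (R : Rel z φ u e x y w)
include R

theorem Rel.zb_comm (b : Bool) (h : H) : h * zb z b = zb z b * h := by
  cases b <;> simp [zb, R.zcen h]

theorem Rel.zb_mul (a b : Bool) : zb z a * zb z b = zb z (xor a b) := by
  cases a <;> cases b <;> simp [zb, R.zz]

theorem Rel.xmod (i : ℕ) : x ^ (i % 7) = x ^ i := (pow_eq_pow_mod i R.x7).symm

theorem Rel.ymod (j : ℕ) : y ^ (j % 3) = y ^ j := (pow_eq_pow_mod j R.y3).symm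

theorem Rel.y_x (j i : ℕ) : y ^ j * x ^ i = x ^ (2 ^ j * i) * y ^ j := by
  induction j with
  | zero => simp
  | succ j ih =>
    have h : y * x ^ (2 ^ j * i) = x ^ (2 * (2 ^ j * i)) * y := by
      rw [← mul_inv_eq_iff_eq_mul, ← conj_pow, R.yx, ← pow_mul]
    rw [pow_succ', mul_assoc, ih, ← mul_assoc, h, mul_assoc, pow_succ' 2, mul_assoc 2]

theorem Rel.x_y (k j : ℕ) : x ^ k * y ^ j = y ^ j * x ^ (4 ^ j * k) := by
  rw [R.y_x, ← mul_assoc, ← mul_pow, show 2 * 4 = 8 by norm_num, ← R.xmod (8 ^ j * k), Nat.mul_mod, Nat.pow_mod]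
  norm_num [R.xmod k]

theorem Rel.w_y (j : ℕ) : w * y ^ j = y ^ (2 * j) * w := by
  have h : y⁻¹ = y ^ 2 := inv_eq_of_mul_eq_one_right (by rw [← pow_succ', R.y3])
  rw [← mul_inv_eq_iff_eq_mul, ← conj_pow, R.wy, h, ← pow_mul]

theorem Rel.w_x_y (k j : ℕ) : w * x ^ k * y ^ j = y ^ (2 * j) * w * x ^ (4 ^ j * k) := by
  rw [mul_assoc, R.x_y, ← mul_assoc, R.w_y]

theorem Rel.winv : w⁻¹ = w * zb z e :=
  inv_eq_of_mul_eq_one_right (by rw [← mul_assoc, R.ww, R.zb_mul, Bool.xor_self, zb_false])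

theorem Rel.wxw_one : w * x ^ 1 * w = zb z e * (x ^ 6 * y ^ 0 * w * x ^ 6) := by
  have hx6 : x⁻¹ = x ^ 6 := inv_eq_of_mul_eq_one_right (by rw [← pow_succ', R.x7])
  have _h1 : w * x ^ 1 * w = zb z e * (x ^ 6 * y ^ 0 * w * x ^ 6) := by
    have h := R.xw
    have h' : w * x * w = x⁻¹ * w⁻¹ * x⁻¹ := by
      rw [pow_succ, pow_two] at h
      rw [← mul_left_inj (x * w * x), ← mul_right_inj x]
      calc x * (w * x * w * (x * w * x)) = x * w * (x * w) * (x * w) * x := by group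
        _ = x := by rw [h, one_mul]
        _ = x * (x⁻¹ * w⁻¹ * x⁻¹ * (x * w * x)) := by group
    rw [pow_one, h', R.winv, hx6, pow_zero, mul_one, ← mul_assoc, R.zb_comm, mul_assoc (zb z e)]
  exact _h1

theorem Rel.wxw_conj (k a b : ℕ) (E : Bool) (h : w * x ^ k * w = zb z E * (x ^ a * y ^ b * w * x ^ a)) :
    w * x ^ (4 * k % 7) * w = zb z E * (x ^ (2 * a % 7) * y ^ ((b + 2) % 3) * w * x ^ (2 * a % 7)) := by
  have h2 : y * (w * x ^ k * w) * y ^ 2 = y * (zb z E * (x ^ a * y ^ b * w * x ^ a)) * y ^ 2 := by rw [h]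
  have el : y * (w * x ^ k * w) * y ^ 2 = w * x ^ (4 * k) * w := by
    calc y * (w * x ^ k * w) * y ^ 2 = y * (w * x ^ k) * (w * y ^ 2) := by group
      _ = y * (w * x ^ k) * (y ^ (2 * 2) * w) := by rw [R.w_y]
      _ = y * (w * x ^ k * y ^ (2 * 2)) * w := by group
      _ = y * (y ^ (2 * (2 * 2)) * w * x ^ (4 ^ (2 * 2) * k)) * w := by rw [R.w_x_y]
      _ = y ^ (1 + 2 * (2 * 2)) * w * x ^ (4 ^ (2 * 2) * k) * w := by rw [pow_add, pow_one]; group
      _ = w * x ^ (4 * k) * w := by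
        rw [← R.ymod, ← R.xmod (4 ^ (2 * 2) * k), ← R.xmod (4 * k), Nat.mul_mod, Nat.mul_mod 4 k]
        norm_num
  have er : y * (zb z E * (x ^ a * y ^ b * w * x ^ a)) * y ^ 2 =
      zb z E * (x ^ (2 * a) * y ^ (b + 2) * w * x ^ (2 * a)) := by
    calc y * (zb z E * (x ^ a * y ^ b * w * x ^ a)) * y ^ 2
        = zb z E * ((y ^ 1 * x ^ a) * y ^ b * (w * x ^ a * y ^ 2)) := by
          rw [← mul_assoc y, R.zb_comm, pow_one]; group
      _ = zb z E * ((x ^ (2 ^ 1 * a) * y ^ 1) * y ^ b * (y ^ (2 * 2) * w * x ^ (4 ^ 2 * a))) := by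
          rw [R.y_x, R.w_x_y]
      _ = zb z E * (x ^ (2 ^ 1 * a) * y ^ (1 + b + 2 * 2) * w * x ^ (4 ^ 2 * a)) := by
          rw [pow_add, pow_add]; group
      _ = _ := by
          rw [← R.ymod (1 + b + 2 * 2), ← R.ymod (b + 2), ← R.xmod (4 ^ 2 * a), ← R.xmod (2 * a), Nat.mul_mod,
            Nat.mul_mod 2 a, show (1 + b + 2 * 2) % 3 = (b + 2) % 3 by omega]
          norm_num [R.xmod]
  rw [R.xmod, R.xmod, R.ymod, ← el, h2, er]

theorem Rel.wxw_inv (k a b : ℕ) (E : Bool) (hk : k < 7) (ha : a < 7) (hb : b < 3)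
    (h : w * x ^ k * w = zb z E * (x ^ a * y ^ b * w * x ^ a)) :
    w * x ^ (7 - k) * w = zb z (xor E e) * (x ^ (7 - a) * y ^ b * w * x ^ (7 - a)) := by
  have hxi : ∀ n, n < 7 → (x ^ n)⁻¹ = x ^ (7 - n) := fun n hn =>
    inv_eq_of_mul_eq_one_right (by rw [← pow_add, show n + (7 - n) = 7 by omega, R.x7])
  have hyi : (y ^ b)⁻¹ = y ^ (3 - b) :=
    inv_eq_of_mul_eq_one_right (by rw [← pow_add, show b + (3 - b) = 3 by omega, R.y3])
  have h2 := congrArg (·⁻¹) h
  simp only [mul_inv_rev] at h2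
  have hzi : (zb z E)⁻¹ = zb z E := inv_eq_of_mul_eq_one_right (by rw [R.zb_mul, Bool.xor_self, zb_false])
  rw [hxi k hk, hxi a ha, hyi, hzi, R.winv] at h2
  have el : w * zb z e * (x ^ (7 - k) * (w * zb z e)) = w * x ^ (7 - k) * w := by
    calc w * zb z e * (x ^ (7 - k) * (w * zb z e)) = w * (zb z e * (x ^ (7 - k) * w)) * zb z e := by group
      _ = w * (x ^ (7 - k) * w * zb z e) * zb z e := by rw [R.zb_comm e (x ^ (7 - k) * w)]
      _ = w * x ^ (7 - k) * w * (zb z e * zb z e) := by group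
      _ = w * x ^ (7 - k) * w := by rw [R.zb_mul, Bool.xor_self, zb_false, mul_one]
  rw [el] at h2
  rw [h2, ← R.zb_mul]
  calc x ^ (7 - a) * (w * zb z e * (y ^ (3 - b) * x ^ (7 - a))) * zb z E
      = x ^ (7 - a) * w * (zb z e * (y ^ (3 - b) * x ^ (7 - a))) * zb z E := by group
    _ = x ^ (7 - a) * w * (y ^ (3 - b) * x ^ (7 - a) * zb z e) * zb z E := by rw [R.zb_comm e (_ * _)]
    _ = x ^ (7 - a) * (w * y ^ (3 - b)) * x ^ (7 - a) * (zb z e * zb z E) := by group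
    _ = x ^ (7 - a) * y ^ b * w * x ^ (7 - a) * (zb z e * zb z E) := by
        rw [R.w_y, ← R.ymod (2 * (3 - b)), show 2 * (3 - b) % 3 = b by omega]; group
    _ = _ := by rw [R.zb_mul, R.zb_comm, Bool.xor_comm, ← R.zb_mul]

theorem Rel.wxw {k : ℕ} (hk : k < 7) (hk0 : k ≠ 0) :
    w * x ^ k * w = zb z (e && swapE k == 1) * (x ^ swapA k * y ^ swapB k * w * x ^ swapA k) := by
  have h1 := R.wxw_one
  have h4 := R.wxw_conj 1 6 0 e h1
  have h2 := R.wxw_conj 4 5 2 e h4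
  have h6 := R.wxw_inv 1 6 0 e (by norm_num) (by norm_num) (by norm_num) h1
  have h3 := R.wxw_inv 4 5 2 e (by norm_num) (by norm_num) (by norm_num) h4
  have h5 := R.wxw_inv 2 3 1 e (by norm_num) (by norm_num) (by norm_num) h2
  rw [Bool.xor_self] at h6 h3 h5
  interval_cases k
  · exact absurd rfl hk0
  · rw [show (e && swapE 1 == 1) = e by cases e <;> rfl]; exact h1
  · rw [show (e && swapE 2 == 1) = e by cases e <;> rfl]; exact h2
  · rw [show (e && swapE 3 == 1) = false by cases e <;> rfl]; exact h3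
  · rw [show (e && swapE 4 == 1) = e by cases e <;> rfl]; exact h4
  · rw [show (e && swapE 5 == 1) = false by cases e <;> rfl]; exact h5
  · rw [show (e && swapE 6 == 1) = false by cases e <;> rfl]; exact h6

theorem Rel.lam_enc (i j : ℕ) {κ : ℕ} (hκ : κ < 8) :
    lamOf x y w (enc i j κ) = x ^ i * y ^ j * tailOf x w κ := by
  unfold lamOf enc
  rw [show (i % 7 + 7 * (j % 3) + 21 * κ) % 7 = i % 7 by omega,
    show (i % 7 + 7 * (j % 3) + 21 * κ) / 7 % 3 = j % 3 by omega,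
    show (i % 7 + 7 * (j % 3) + 21 * κ) / 21 = κ by omega, R.xmod, R.ymod]

theorem Rel.two_pow (r : ℕ) (k : ℕ) : x ^ (2 ^ (r % 3) * k) = x ^ (2 ^ r * k) := by
  rw [← R.xmod, ← R.xmod (2 ^ r * k), Nat.mul_mod, Nat.mul_mod (2 ^ r) k]
  conv_rhs => rw [← Nat.div_add_mod r 3, pow_add, pow_mul, Nat.mul_mod (_ ^ _), Nat.pow_mod]
  norm_num

theorem Rel.lam_mul {n m : ℕ} (hn : n < 168) (hm : m < 168) :
    lamOf x y w n * lamOf x y w m = zb z (lbit e.toNat n m == 1) * lamOf x y w (lmul n m) := by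
  have hκn : n / 21 < 8 := by omega
  have hκm : m / 21 < 8 := by omega
  unfold lmul lbit
  rw [show lamOf x y w n = x ^ (n % 7) * y ^ (n / 7 % 3) * tailOf x w (n / 21) from rfl,
    show lamOf x y w m = x ^ (m % 7) * y ^ (m / 7 % 3) * tailOf x w (m / 21) from rfl]
  generalize n % 7 = i
  generalize n / 7 % 3 = j
  generalize m % 7 = i'
  generalize m / 7 % 3 = j'
  generalize n / 21 = κ at hκn ⊢
  generalize m / 21 = κ' at hκm ⊢
  have hf : ((0 : ℕ) == 1) = false := rfl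
  by_cases h0 : κ = 0
  · subst h0
    rw [if_pos rfl, if_pos rfl, hf, zb_false, one_mul, R.lam_enc _ _ hκm,
      show tailOf x w 0 = 1 from rfl, mul_one]
    calc x ^ i * y ^ j * (x ^ i' * y ^ j' * tailOf x w κ')
        = x ^ i * (y ^ j * x ^ i') * y ^ j' * tailOf x w κ' := by group
      _ = _ := by rw [R.y_x, pow_add, pow_add]; group
  rw [if_neg h0, if_neg h0]
  simp only []
  have hmid : tailOf x w κ * (x ^ i' * y ^ j') = y ^ (2 * j') * w * x ^ (4 ^ j' * (κ - 1 + i') % 7) := by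
    rw [tailOf, if_neg h0, R.xmod, mul_assoc w, ← mul_assoc (x ^ (κ - 1)), ← pow_add, ← mul_assoc, R.w_x_y]
  have step : x ^ i * y ^ j * tailOf x w κ * (x ^ i' * y ^ j' * tailOf x w κ') =
      x ^ i * y ^ (j + 2 * j') * (w * x ^ (4 ^ j' * (κ - 1 + i') % 7) * tailOf x w κ') := by
    calc x ^ i * y ^ j * tailOf x w κ * (x ^ i' * y ^ j' * tailOf x w κ')
        = x ^ i * y ^ j * (tailOf x w κ * (x ^ i' * y ^ j')) * tailOf x w κ' := by group
      _ = _ := by rw [hmid, pow_add]; group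
  rw [step]
  have hK : 4 ^ j' * (κ - 1 + i') % 7 < 7 := Nat.mod_lt _ (by norm_num)
  generalize 4 ^ j' * (κ - 1 + i') % 7 = K at hK ⊢
  by_cases h1 : κ' = 0
  · subst h1
    rw [if_pos rfl, if_pos rfl, hf, zb_false, one_mul, R.lam_enc _ _ (by omega),
      show tailOf x w 0 = 1 from rfl, mul_one, show tailOf x w (K + 1) = w * x ^ K from rfl]
  rw [if_neg h1, if_neg h1, show tailOf x w κ' = w * x ^ (κ' - 1) from if_neg h1]
  by_cases h2 : K = 0
  · subst h2
    rw [if_pos rfl, if_pos rfl, R.lam_enc _ _ (by norm_num), show tailOf x w 0 = 1 from rfl, mul_one, pow_zero,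
      mul_one, ← mul_assoc w w, R.ww, show (e.toNat == 1) = e by cases e <;> rfl]
    calc x ^ i * y ^ (j + 2 * j') * (zb z e * x ^ (κ' - 1))
        = x ^ i * y ^ (j + 2 * j') * zb z e * x ^ (κ' - 1) := by group
      _ = zb z e * (x ^ i * (y ^ (j + 2 * j') * x ^ (κ' - 1))) := by rw [R.zb_comm]; group
      _ = _ := by rw [R.y_x, pow_add x i, R.two_pow]; group
  rw [if_neg h2, if_neg h2, R.lam_enc _ _ (by omega),
    show tailOf x w ((swapA K + (κ' - 1)) % 7 + 1) = w * x ^ ((swapA K + (κ' - 1)) % 7) from rfl, R.xmod,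
    show (e.toNat * swapE K == 1) = (e && swapE K == 1) by cases e <;> simp]
  calc x ^ i * y ^ (j + 2 * j') * (w * x ^ K * (w * x ^ (κ' - 1)))
      = x ^ i * y ^ (j + 2 * j') * (w * x ^ K * w) * x ^ (κ' - 1) := by group
    _ = x ^ i * y ^ (j + 2 * j') * zb z (e && swapE K == 1) *
        (x ^ swapA K * y ^ swapB K * w * x ^ swapA K) * x ^ (κ' - 1) := by rw [R.wxw hK h2]; group
    _ = zb z (e && swapE K == 1) *
        (x ^ i * (y ^ (j + 2 * j') * x ^ swapA K) * y ^ swapB K * w * x ^ swapA K * x ^ (κ' - 1)) := by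
        rw [R.zb_comm]; group
    _ = _ := by rw [R.y_x, pow_add x i, R.two_pow, pow_add y, pow_add x (swapA K)]; group

theorem Rel.act {n q : ℕ} (hq : q < 128) (hn : n < 168) :
    lamOf x y w n * φ q * (lamOf x y w n)⁻¹ = φ (actN u n q) := by
  have ht : tailOf x w (n / 21) * φ q * (tailOf x w (n / 21))⁻¹ =
      φ (if n / 21 = 0 then q else look (tabW u) (look (tabX.getD (n / 21 - 1) 0) q)) := by
    unfold tailOf
    split
    · simp
    · rw [mul_inv_rev]
      calc w * x ^ (n / 21 - 1) * φ q * ((x ^ (n / 21 - 1))⁻¹ * w⁻¹)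
          = w * (x ^ (n / 21 - 1) * φ q * (x ^ (n / 21 - 1))⁻¹) * w⁻¹ := by group
        _ = _ := by rw [R.cx _ (by omega) q hq, R.cw _ (look_lt _ _)]
  have hlt : (if n / 21 = 0 then q else look (tabW u) (look (tabX.getD (n / 21 - 1) 0) q)) < 128 := by
    split
    · exact hq
    · exact look_lt _ _
  calc lamOf x y w n * φ q * (lamOf x y w n)⁻¹ = x ^ (n % 7) * (y ^ (n / 7 % 3) *
        (tailOf x w (n / 21) * φ q * (tailOf x w (n / 21))⁻¹) * (y ^ (n / 7 % 3))⁻¹) * (x ^ (n % 7))⁻¹ := by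
        unfold lamOf; group
    _ = φ (actN u n q) := by
        rw [ht, R.cy _ (by omega) _ hlt, R.cx _ (by omega) _ (look_lt _ _)]; rfl

theorem Rel.psi_mul {c d : ℕ} (hc : c < 21504) (hd : d < 21504) :
    psiOf φ x y w (cmul u e.toNat c d) = psiOf φ x y w c * psiOf φ x y w d ∧ cmul u e.toNat c d < 21504 := by
  have hn : c / 128 < 168 := by omega
  have hm : d / 128 < 168 := by omega
  have hq1 : c % 128 < 128 := Nat.mod_lt _ (by norm_num)
  have hq2 : d % 128 < 128 := Nat.mod_lt _ (by norm_num)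
  have hl := lmul_lt _ hn _ hm
  have hbit : lbit e.toNat (c / 128) (d / 128) ≤ 1 := by
    cases e
    · exact (le_of_eq (lbit_le _ hn _ hm).2).trans zero_le_one
    · exact (lbit_le _ hn _ hm).1
  set b := lbit e.toNat (c / 128) (d / 128) with hb
  have hbz : φ (64 * b) = zb z (b == 1) := by
    obtain h | h : b = 0 ∨ b = 1 := by omega
    · rw [h]; exact R.bit.1
    · rw [h]; exact R.bit.2
  have hA : actN u (c / 128) (d % 128) < 128 := look_lt _ _
  set Q := qmul (qmul (c % 128) (actN u (c / 128) (d % 128))) (64 * b) with hQ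
  have hQ' : Q < 128 := qmul_lt _ _
  have hcm : cmul u e.toNat c d = Q + 128 * lmul (c / 128) (d / 128) := rfl
  refine ⟨?_, by rw [hcm]; omega⟩
  rw [hcm, psiOf, show (Q + 128 * lmul (c / 128) (d / 128)) % 128 = Q by omega,
    show (Q + 128 * lmul (c / 128) (d / 128)) / 128 = lmul (c / 128) (d / 128) by omega, hQ,
    R.mul _ (qmul_lt _ _) _ (by omega), R.mul _ hq1 _ hA, hbz]
  rw [← R.act hq2 hn]
  calc φ (c % 128) * (lamOf x y w (c / 128) * φ (d % 128) * (lamOf x y w (c / 128))⁻¹) * zb z (b == 1) *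
        lamOf x y w (lmul (c / 128) (d / 128))
      = φ (c % 128) * (lamOf x y w (c / 128) * φ (d % 128) * (lamOf x y w (c / 128))⁻¹) *
          (lamOf x y w (c / 128) * lamOf x y w (d / 128)) := by rw [R.lam_mul hn hm, hb]; group
    _ = psiOf φ x y w c * psiOf φ x y w d := by unfold psiOf; group

end CfsgLib.InvChar.HeRec.BFrame
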