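import Cfsg.Agent.Lib.InvChar.HeRec.BFrame.Actions

/-!
# The action of the lifted involution
-/

set_option autoImplicit false
set_option maxRecDepth 100000

namespace CfsgLib.InvChar.HeRec.BFrame

open Subgroup CModel

/-- Two codes do not commute. -/
def nc (c d : ℕ) : Bool := !(qmul c d == qmul d c)

/-- The six images from the four free ones. -/
def mkIm (al be ga de : ℕ) : List ℕ :=
  [al, ga, look (tabY.getD 2 0) ga, be, de, look (tabY.getD 2 0) de]

/-- Conditions on `al`, `be`. -/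
def cA (al be : ℕ) : Bool :=
  look (tabY.getD 1 0) al == al && look (tabY.getD 1 0) be == be && qmul al al == 0 && qmul be be == 0 && nc al be

/-- Conditions on `ga`. -/
def cG (al be ga : ℕ) : Bool :=
  qmul ga ga == 0 && (nc al ga == nc 1 2) && (nc be ga == nc 8 2) &&
    (nc al (look (tabY.getD 2 0) ga) == nc 1 4) && (nc ga (look (tabY.getD 2 0) ga) == nc 2 4) &&
    (nc be (look (tabY.getD 2 0) ga) == nc 8 4)

/-- The six generators. -/
def gens6 : List ℕ := [1, 2, 4, 8, 16, 32]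

/-- Conditions on the whole image list. -/
def cD (im : List ℕ) : Bool :=
  qmul (im.getD 4 0) (im.getD 4 0) == 0 &&
    foldIm im (look (tabY.getD 1 0) 4) == look (tabY.getD 2 0) (im.getD 2 0) &&
    foldIm im (look (tabY.getD 1 0) 32) == look (tabY.getD 2 0) (im.getD 5 0) &&
    (List.range 6).all (fun i => (List.range 6).all fun j =>
      nc (im.getD i 0) (im.getD j 0) == nc (gens6.getD i 0) (gens6.getD j 0)) &&
    gens6.all (fun g => foldIm im (foldIm im g) % 64 == g) &&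
    gens6.all (fun g => look (tabX.getD 1 0) (foldIm im (look (tabX.getD 1 0) (foldIm im
      (look (tabX.getD 1 0) (foldIm im g))))) % 64 == g)

/-- The images in the semisimple and in the uniserial case, up to an inner automorphism. -/
def goodIms : List (List ℕ) :=
  [[1, 7, 4, 8, 32, 16], [1, 7, 4, 8, 99, 86], [1, 7, 4, 72, 32, 16], [1, 7, 4, 72, 99, 86],
   [65, 71, 68, 8, 32, 16], [65, 71, 68, 8, 99, 86], [65, 71, 68, 72, 32, 16], [65, 71, 68, 72, 99, 86]]

/-- The images in the dual uniserial case. -/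
def dualIms : List (List ℕ) :=
  [[1, 87, 116, 8, 32, 16], [1, 87, 116, 72, 32, 16], [65, 23, 52, 8, 32, 16], [65, 23, 52, 72, 32, 16]]

/-- The search. -/
def checkAll : Bool :=
  (List.range 128).all fun al => (List.range 128).all fun be => !(cA al be) ||
    (List.range 128).all fun ga => !(cG al be ga) ||
      (List.range 128).all fun de => !(cD (mkIm al be ga de)) || (goodIms ++ dualIms).contains (mkIm al be ga de)

theorem checkAll_ok : checkAll = true := by decide +kernel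

theorem classify_im {al be ga de : ℕ} (h1 : al < 128) (h2 : be < 128) (hA : cA al be = true) (h3 : ga < 128)
    (hG : cG al be ga = true) (h4 : de < 128) (hD : cD (mkIm al be ga de) = true) :
    mkIm al be ga de ∈ goodIms ++ dualIms := by
  have h := checkAll_ok
  simp only [checkAll, List.all_eq_true, List.mem_range, Bool.or_eq_true, Bool.not_eq_true'] at h
  rcases h al h1 be h2 with h | h
  · rw [hA] at h; exact Bool.noConfusion h
  rcases h ga h3 with h | h
  · rw [hG] at h; exact Bool.noConfusion h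
  rcases h de h4 with h | h
  · rw [hD] at h; exact Bool.noConfusion h
  exact List.contains_iff_mem.1 h

theorem foldIm_lt (im : List ℕ) (q : ℕ) : foldIm im q < 128 := qmul_lt _ _

theorem good_inner : ∀ im ∈ goodIms, ∃ u < 2, ∃ q0 < 128, look (tabY.getD 1 0) q0 = q0 ∧
    ∀ q < 128, qmul q0 (look (tabW u) q) = qmul (foldIm im q) q0 := by decide +kernel

/-- The generators of the frame with `x` replaced by its inverse and the halves exchanged. -/
def tauIm : List ℕ :=
  [8, look (tabX.getD 6 0) 8, look (tabX.getD 5 0) 8, 1, look (tabX.getD 6 0) 1, look (tabX.getD 5 0) 1]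

theorem dual_mismatch : ∀ im ∈ dualIms, ∀ im2 ∈ dualIms,
    ∃ g ∈ gens6, foldIm im (foldIm tauIm g) ≠ foldIm tauIm (foldIm im2 g) := by decide +kernel

variable {H : Type*} [Group H] [Finite H] {π : H →* L168} {z x a b : H}

omit [Finite H] in
theorem sh_inv_pow (hx : x ^ 7 = 1) (n : ℕ) (p : H) : sh x⁻¹ n p = sh x (6 * n) p := by
  have e : x⁻¹ ^ n = x ^ (6 * n) := by
    rw [pow_mul]
    congr 1
    exact inv_eq_of_mul_eq_one_right (by rw [← pow_succ', hx])
  simp only [sh, e]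

omit [Finite H] in
theorem Halves.dual (C : Ctx π z) (D : Halves π z x a b) (hx : x ^ 7 = 1) : Halves π z x⁻¹ b a where
  ka := D.kb
  kb := D.ka
  a2 := D.b2
  b2 := D.a2
  eA := by
    have h := congrArg (sh x 4) D.eB
    rw [sh_sh, sh_mul, sh_sh, show sh x (4 + 3) b = b by rw [← sh_mod hx]; exact sh_zero x b] at h
    rw [sh_inv_pow hx, sh_inv_pow hx, ← sh_mod hx (6 * 3), ← sh_mod hx (6 * 2)]
    show sh x 4 b = b * sh x 5 b
    have hb2 : sh x 5 b * sh x 5 b = 1 := by rw [← sh_mul, D.b2]; simp [sh]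
    exact (mul_inv_eq_of_eq_mul h).symm.trans (by rw [inv_eq_of_mul_eq_one_right hb2])
  eB := by
    have h := congrArg (sh x 4) D.eA
    rw [sh_sh, sh_mul, sh_sh, show sh x (4 + 3) a = a by rw [← sh_mod hx]; exact sh_zero x a] at h
    rw [sh_inv_pow hx, sh_inv_pow hx, ← sh_mod hx (6 * 3), ← sh_mod hx (6 * 1)]
    show sh x 4 a = a * sh x 6 a
    have ha2 : sh x 6 a * sh x 6 a = 1 := by rw [← sh_mul, D.a2]; simp [sh]
    exact (mul_inv_eq_of_eq_mul h).symm.trans (by rw [inv_eq_of_mul_eq_one_right ha2])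
  aa i := by rw [sh_inv_pow hx]; exact D.bb _
  bb i := by rw [sh_inv_pow hx]; exact D.aa _
  ab i := by
    rw [sh_inv_pow hx, C.cm_symm (sh_mem x _ D.kb) D.ka, ← sh_zero x a, C.cm_sh_sub hx D.kb D.ka (6 * i) 0, D.ab]
    congr 1
    omega

variable (C : Ctx π z) (D : Halves π z x a b)
include C D

omit [Finite H] in
theorem Halves.nc_eq (hx : x ^ 7 = 1) {c d : ℕ} (hc : c < 128) (hd : d < 128) :
    nc c d = cm (phi z x a b c) (phi z x a b d) := by
  unfold nc cm
  rw [← D.phi_mul C hx hc hd, ← D.phi_mul C hx hd hc]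
  by_cases h : qmul c d = qmul d c
  · simp [h]
  · have h' : phi z x a b (qmul c d) ≠ phi z x a b (qmul d c) := fun e =>
      h (D.phi_inj C hx (qmul_lt _ _) (qmul_lt _ _) e)
    simp [h, h']

/-- The image list of a `w` inverting the fixed element of order three. -/
theorem Halves.exists_im (hx : x ^ 7 = 1) {y w : H} (hyx : y * x * y⁻¹ = x ^ 2) (hy : y ^ 3 = 1)
    (hya : y * a * y⁻¹ = a) (hyb : y * b * y⁻¹ = b) (hwy : w * y * w⁻¹ = y⁻¹) (hww : w * w ∈ π.ker)
    (hxw : (x * w) ^ 3 ∈ π.ker) :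
    ∃ im ∈ goodIms ++ dualIms, ∀ q < 128, w * phi z x a b q * w⁻¹ = phi z x a b (foldIm im q) := by
  classical
  obtain ⟨g0, g1, g2, g4, g8, g16, g32, g64⟩ := phi_gens z x a b
  have hY := D.conj_y C hx hyx hya hyb
  have hY1 : ∀ q < 128, y * phi z x a b q * y⁻¹ = phi z x a b (look (tabY.getD 1 0) q) := fun q hq => by
    simpa using hY 1 (by norm_num) q hq
  have hY2 : ∀ q < 128, y⁻¹ * phi z x a b q * y = phi z x a b (look (tabY.getD 2 0) q) := fun q hq => by
    have e : y⁻¹ = y ^ 2 := inv_eq_of_mul_eq_one_right (by rw [← pow_succ', hy])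
    rw [← hY 2 (by norm_num) q hq, ← e, inv_inv]
  have hk : ∀ q, ∃ c < 128, phi z x a b c = w * phi z x a b q * w⁻¹ := fun q =>
    D.phi_surj C hx ((MonoidHom.normal_ker π).conj_mem _ (D.phi_mem C q) w)
  choose cw hcw hcw' using hk
  have hswap : ∀ p, w * (y * p * y⁻¹) * w⁻¹ = y⁻¹ * (w * p * w⁻¹) * y := fun p => by
    calc w * (y * p * y⁻¹) * w⁻¹ = (w * y * w⁻¹) * (w * p * w⁻¹) * (w * y * w⁻¹)⁻¹ := by group
      _ = y⁻¹ * (w * p * w⁻¹) * y := by rw [hwy, inv_inv]
  have hyimg : ∀ q < 128, cw (look (tabY.getD 1 0) q) = look (tabY.getD 2 0) (cw q) := fun q hq =>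
    D.phi_inj C hx (hcw _) (look_lt _ _) (by rw [hcw', ← hY1 q hq, hswap, ← hcw' q, hY2 _ (hcw q)])
  set al := cw 1 with hal
  set be := cw 8
  set ga := cw 2
  set de := cw 16
  have h4 : cw 4 = look (tabY.getD 2 0) ga := by
    rw [← show look (tabY.getD 1 0) 2 = 4 by decide +kernel]; exact hyimg 2 (by norm_num)
  have h32 : cw 32 = look (tabY.getD 2 0) de := by
    rw [← show look (tabY.getD 1 0) 16 = 32 by decide +kernel]; exact hyimg 16 (by norm_num)
  have hsix : ∀ i < 6, (mkIm al be ga de).getD i 0 = cw (gens6.getD i 0) := fun i hi => by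
    interval_cases i <;> first | rfl | exact h4.symm | exact h32.symm
  have himlt : ∀ k, (mkIm al be ga de).getD k 0 < 128 := fun k => by
    by_cases hk : k < 6
    · rw [hsix k hk]; exact hcw _
    · rw [List.getD_eq_default _ _ (by simp [mkIm]; omega)]; norm_num
  have hW : ∀ q < 128, w * phi z x a b q * w⁻¹ = phi z x a b (foldIm (mkIm al be ga de) q) := fun q hq =>
    D.conj_phi C hx w _ himlt (fun k hk => by
      rw [hsix k hk, hcw']
      interval_cases k <;> rfl) hq
  refine ⟨_, ?_, hW⟩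
  have hnc : ∀ p q, p < 128 → q < 128 → nc (cw p) (cw q) = nc p q := fun p q hp hq => by
    rw [D.nc_eq C hx (hcw p) (hcw q), D.nc_eq C hx hp hq, hcw', hcw',
      C.cm_conj w (D.phi_mem C p) (D.phi_mem C q)]
  have hsq : ∀ q, q < 128 → qmul q q = 0 → qmul (cw q) (cw q) = 0 := fun q hq h =>
    D.phi_inj C hx (qmul_lt _ _) (by norm_num) (by
      rw [D.phi_mul C hx (hcw q) (hcw q), hcw', g0,
        show w * phi z x a b q * w⁻¹ * (w * phi z x a b q * w⁻¹) = w * (phi z x a b q * phi z x a b q) * w⁻¹ by group,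
        ← D.phi_mul C hx hq hq, h, g0, mul_one, mul_inv_cancel])
  have hfix : ∀ q, q < 128 → look (tabY.getD 1 0) q = q → look (tabY.getD 1 0) (cw q) = cw q := fun q hq h => by
    refine D.phi_inj C hx (look_lt _ _) (hcw q) ?_
    have h2 := hyimg q hq
    rw [h] at h2
    rw [← hY1 _ (hcw q)]
    conv_lhs => rw [h2, ← hY2 _ (hcw q)]
    group
  have hlin : ∀ g ∈ gens6, g < 128 := by decide
  refine classify_im (hcw _) (hcw _) ?_ (hcw _) ?_ (hcw _) ?_
  · simp only [cA, Bool.and_eq_true, beq_iff_eq]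
    exact ⟨⟨⟨⟨hfix 1 (by norm_num) (by decide +kernel), hfix 8 (by norm_num) (by decide +kernel)⟩,
      hsq 1 (by norm_num) (by decide)⟩, hsq 8 (by norm_num) (by decide)⟩,
      (hnc 1 8 (by norm_num) (by norm_num)).trans (by decide)⟩
  · simp only [cG, Bool.and_eq_true, beq_iff_eq]
    rw [← h4]
    exact ⟨⟨⟨⟨⟨hsq 2 (by norm_num) (by decide), hnc 1 2 (by norm_num) (by norm_num)⟩,
      hnc 8 2 (by norm_num) (by norm_num)⟩, hnc 1 4 (by norm_num) (by norm_num)⟩,
      hnc 2 4 (by norm_num) (by norm_num)⟩, hnc 8 4 (by norm_num) (by norm_num)⟩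
  · simp only [cD, Bool.and_eq_true, beq_iff_eq, List.all_eq_true, List.mem_range]
    have hfold : ∀ q < 128, cw q = foldIm (mkIm al be ga de) q := fun q hq =>
      D.phi_inj C hx (hcw q) (qmul_lt _ _) (by rw [hcw', hW q hq])
    have hmodz : ∀ (g : H), g ∈ π.ker → ∀ q < 64, ∀ c < 128, g * phi z x a b q * g⁻¹ = phi z x a b c →
        c % 64 = q := by
      intro g hg q hq' c hc he
      have hq : q < 128 := by omega
      have hz : c = q ∨ c = qmul q 64 := by
        rcases C.comm g hg _ (D.phi_mem C q) with h | h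
        · exact Or.inl (D.phi_inj C hx hc hq (by rw [← he, h, mul_inv_cancel_right]))
        · refine Or.inr (D.phi_inj C hx hc (qmul_lt _ _) ?_)
          rw [← he, h, D.phi_mul C hx hq (by norm_num), g64, mul_assoc _ z g⁻¹, ← C.zcen g⁻¹, ← mul_assoc,
            mul_inv_cancel_right]
      have e : ∀ q < 128, qmul q 64 % 64 = q % 64 := by decide +kernel
      rcases hz with rfl | rfl
      · exact Nat.mod_eq_of_lt hq'
      · rw [e q hq]; exact Nat.mod_eq_of_lt hq'
    refine ⟨⟨⟨⟨⟨?_, ?_⟩, ?_⟩, ?_⟩, ?_⟩, ?_⟩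
    · rw [hsix 4 (by norm_num)]; exact hsq 16 (by norm_num) (by decide)
    · rw [← hfold _ (look_lt _ _), hyimg 4 (by norm_num), hsix 2 (by norm_num)]; rfl
    · rw [← hfold _ (look_lt _ _), hyimg 32 (by norm_num), hsix 5 (by norm_num)]; rfl
    · intro i hi j hj
      rw [hsix i hi, hsix j hj]
      exact hnc _ _ (hlin _ (by interval_cases i <;> simp [gens6])) (hlin _ (by interval_cases j <;> simp [gens6]))
    · intro g hg
      have hg' := hlin g hg
      rw [← hfold g hg']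
      refine hmodz (w * w) hww g ((by decide : ∀ g ∈ gens6, g < 64) g hg) _ (foldIm_lt _ _) ?_
      rw [← hW _ (hcw g), hcw']; group
    · intro g hg
      have hg' := hlin g hg
      have hX : ∀ q < 128, x * phi z x a b q * x⁻¹ = phi z x a b (look (tabX.getD 1 0) q) := fun q hq => by
        rw [← D.conj_x C hx 1 (by norm_num) q hq, sh, pow_one]
      refine hmodz ((x * w) ^ 3) hxw g ((by decide : ∀ g ∈ gens6, g < 64) g hg) _ (look_lt _ _) ?_
      rw [← hX _ (foldIm_lt _ _), ← hW _ (look_lt _ _), ← hX _ (foldIm_lt _ _), ← hW _ (look_lt _ _), ← hX _ (foldIm_lt _ _),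
        ← hW g hg', pow_succ, pow_two]
      group

/-- One of the two frames gives a normal form of the action. -/
theorem Halves.exists_good (hx : x ^ 7 = 1) {y w : H} (hyx : y * x * y⁻¹ = x ^ 2) (hy : y ^ 3 = 1)
    (hya : y * a * y⁻¹ = a) (hyb : y * b * y⁻¹ = b) (hwy : w * y * w⁻¹ = y⁻¹) (hww : w * w ∈ π.ker)
    (hxw : (x * w) ^ 3 ∈ π.ker) (hxw' : (x⁻¹ * w) ^ 3 ∈ π.ker) :
    ∃ x' a' b' w', Halves π z x' a' b' ∧ x' ^ 7 = 1 ∧ (x' = x ∨ x' = x⁻¹) ∧ y * x' * y⁻¹ = x' ^ 2 ∧
      y * a' * y⁻¹ = a' ∧ y * b' * y⁻¹ = b' ∧ π w' = π w ∧ w' * y * w'⁻¹ = y⁻¹ ∧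
      ∃ u < 2, ∀ q < 128, w' * phi z x' a' b' q * w'⁻¹ = phi z x' a' b' (look (tabW u) q) := by
  have fin : ∀ {x' a' b' : H}, Halves π z x' a' b' → x' ^ 7 = 1 → y * x' * y⁻¹ = x' ^ 2 → y * a' * y⁻¹ = a' →
      y * b' * y⁻¹ = b' → ∀ im ∈ goodIms, (∀ q < 128, w * phi z x' a' b' q * w⁻¹ = phi z x' a' b' (foldIm im q)) →
      ∃ w', π w' = π w ∧ w' * y * w'⁻¹ = y⁻¹ ∧
        ∃ u < 2, ∀ q < 128, w' * phi z x' a' b' q * w'⁻¹ = phi z x' a' b' (look (tabW u) q) := by
    intro x' a' b' D' hx' hyx' hya' hyb' im him hW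
    obtain ⟨u, hu, q0, hq0, hfix, hin⟩ := good_inner im him
    refine ⟨(phi z x' a' b' q0)⁻¹ * w, ?_, ?_, u, hu, fun q hq => ?_⟩
    · rw [map_mul, map_inv, π.mem_ker.1 (D'.phi_mem C q0), inv_one, one_mul]
    · have h1 : y * phi z x' a' b' q0 * y⁻¹ = phi z x' a' b' q0 := by
        have h := D'.conj_y C hx' hyx' hya' hyb' 1 (by norm_num) q0 hq0
        rw [pow_one, hfix] at h
        exact h
      have h3 : Commute y (phi z x' a' b' q0) := mul_inv_eq_iff_eq_mul.1 h1
      calc (phi z x' a' b' q0)⁻¹ * w * y * ((phi z x' a' b' q0)⁻¹ * w)⁻¹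
          = (phi z x' a' b' q0)⁻¹ * (w * y * w⁻¹) * phi z x' a' b' q0 := by group
        _ = y⁻¹ := by rw [hwy, mul_assoc, h3.inv_left.eq, inv_mul_cancel_left]
    · have h2 := congrArg (phi z x' a' b') (hin q hq)
      rw [D'.phi_mul C hx' hq0 (look_lt _ _), D'.phi_mul C hx' (foldIm_lt _ _) hq0, ← hW q hq] at h2
      rw [← mul_right_inj (phi z x' a' b' q0), h2]
      group
  obtain ⟨im, him, hW⟩ := D.exists_im C hx hyx hy hya hyb hwy hww hxw
  rcases List.mem_append.1 him with hg | hd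
  · obtain ⟨w', h⟩ := fin D hx hyx hya hyb im hg hW
    exact ⟨x, a, b, w', D, hx, Or.inl rfl, hyx, hya, hyb, h⟩
  have hx' : x⁻¹ ^ 7 = 1 := by rw [inv_pow, hx, inv_one]
  have hyx' : y * x⁻¹ * y⁻¹ = x⁻¹ ^ 2 := by rw [← conj_inv, hyx, inv_pow]
  have D' := D.dual C hx
  obtain ⟨im2, him2, hW2⟩ := D'.exists_im C hx' hyx' hy hyb hya hwy hww hxw'
  rcases List.mem_append.1 him2 with hg | hd2
  · obtain ⟨w', h⟩ := fin D' hx' hyx' hyb hya im2 hg hW2
    exact ⟨x⁻¹, b, a, w', D', hx', Or.inr rfl, hyx', hyb, hya, h⟩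
  exfalso
  obtain ⟨g0, g1, g2, g4, g8, g16, g32, g64⟩ := phi_gens z x a b
  obtain ⟨f0, f1, f2, f4, f8, f16, f32, f64⟩ := phi_gens z x⁻¹ b a
  -- codes in the dual frame
  have e5 : sh x⁻¹ 2 = sh x 5 := funext fun p => by rw [sh_inv_pow hx, ← sh_mod hx]
  have e6 : sh x⁻¹ 1 = sh x 6 := funext fun p => by rw [sh_inv_pow hx]
  have hX := D.conj_x C hx
  have htau : ∀ q < 128, phi z x⁻¹ b a q = phi z x a b (foldIm tauIm q) := by
    intro q hq
    have hlt : ∀ k, tauIm.getD k 0 < 128 := fun k => by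
      by_cases hk : k < 6
      · interval_cases k <;> simp [tauIm, look_lt]
      · rw [List.getD_eq_default _ _ (by simp [tauIm]; omega)]; norm_num
    have h8 : phi z x a b (look (tabX.getD 6 0) 8) = sh x 6 b := by rw [← hX 6 (by norm_num) 8 (by norm_num), g8]
    have h8' : phi z x a b (look (tabX.getD 5 0) 8) = sh x 5 b := by rw [← hX 5 (by norm_num) 8 (by norm_num), g8]
    have h1 : phi z x a b (look (tabX.getD 6 0) 1) = sh x 6 a := by rw [← hX 6 (by norm_num) 1 (by norm_num), g1]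
    have h1' : phi z x a b (look (tabX.getD 5 0) 1) = sh x 5 a := by rw [← hX 5 (by norm_num) 1 (by norm_num), g1]
    conv_lhs => rw [← foldIm_parts q hq]
    rw [D'.phi_foldIm C hx' [1, 2, 4, 8, 16, 32] (fun k => by
      by_cases hk : k < 6
      · interval_cases k <;> decide
      · rw [List.getD_eq_default _ _ (by simp; omega)]; norm_num) q, D.phi_foldIm C hx tauIm hlt q]
    simp only [tauIm, List.getD_cons_zero, List.getD_cons_succ, f1, f2, f4, f8, f16, f32, g1, g8, h8, h8', h1, h1',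
      e5, e6]
  obtain ⟨g, hg, hne⟩ := dual_mismatch im hd im2 hd2
  have hg' : g < 128 := (by decide : ∀ g ∈ gens6, g < 128) g hg
  apply hne
  refine D.phi_inj C hx (foldIm_lt _ _) (foldIm_lt _ _) ?_
  rw [← hW _ (foldIm_lt _ _), ← htau g hg', ← htau _ (foldIm_lt _ _), ← hW2 g hg']

end CfsgLib.InvChar.HeRec.BFrame
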