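import Cfsg.Agent.Lib.InvChar.HeRec.BFrame.Halves
import Cfsg.Agent.Lib.InvChar.HeRec.CModel

/-!
# Coordinates on the extraspecial group and the actions of the elements of order seven and three
-/

set_option autoImplicit false
set_option maxRecDepth 100000

namespace CfsgLib.InvChar.HeRec.BFrame

open Subgroup CModel

/-- The product of the six images and the central bit. -/
def foldIm (im : List ℕ) (q : ℕ) : ℕ :=
  qmul (qmul (qmul (qmul (if q.testBit 0 then im.getD 0 0 else 0) (if q.testBit 1 then im.getD 1 0 else 0))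
      (if q.testBit 2 then im.getD 2 0 else 0))
    (qmul (qmul (if q.testBit 3 then im.getD 3 0 else 0) (if q.testBit 4 then im.getD 4 0 else 0))
      (if q.testBit 5 then im.getD 5 0 else 0))) (if q.testBit 6 then 64 else 0)

/-- The pairing of two halves as a Boolean. -/
def pairB (n m : ℕ) : Bool := pairQ n m == 1

/-- The contribution of `(sh j b, sh i a)` to the pairing of the halves `n` and `m`. -/
def pairTerm (n m j i : ℕ) : Bool := n.testBit j && m.testBit i && fPair.getD ((i + (7 - j % 7)) % 7 % 7) false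

/-- The row of the pairing. -/
def pairRow (n m j : ℕ) : Bool := xor (xor (pairTerm n m j 0) (pairTerm n m j 1)) (pairTerm n m j 2)

theorem pair_expand : ∀ n < 8, ∀ m < 8,
    xor (xor (pairRow n m 0) (pairRow n m 1)) (pairRow n m 2) = pairB n m := by decide +kernel

theorem qmul_parts : ∀ p < 128, ∀ q < 128, qmul p q % 8 = (p % 8) ^^^ (q % 8) ∧
    qmul p q / 8 % 8 = (p / 8 % 8) ^^^ (q / 8 % 8) ∧ qmul p q < 128 ∧
    (qmul p q).testBit 6 = xor (xor (p.testBit 6) (q.testBit 6)) (pairB (p / 8 % 8) (q % 8)) := by decide +kernel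

theorem qmul_lt (p q : ℕ) : qmul p q < 128 := by
  unfold qmul
  have h1 : (p ^^^ q) &&& 63 ≤ 63 := Nat.and_le_right
  have h2 : ((p >>> 6) ^^^ (q >>> 6) ^^^ pairQ ((p >>> 3) &&& 7) (q &&& 7)) &&& 1 ≤ 1 := Nat.and_le_right
  omega

theorem foldIm_parts : ∀ q < 128, foldIm [1, 2, 4, 8, 16, 32] q = q := by decide +kernel

theorem tabX_fold : ∀ q < 128, look (tabX.getD 1 0) q = foldIm [2, 4, 5, 16, 32, 24] q := by decide +kernel

theorem tabX_succ : ∀ i < 6, ∀ q < 128, look (tabX.getD (i + 1) 0) q = look (tabX.getD 1 0) (look (tabX.getD i 0) q) := by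
  decide +kernel

theorem tabX_zero : ∀ q < 128, look (tabX.getD 0 0) q = q := by decide +kernel

theorem tabY_fold : ∀ q < 128, look (tabY.getD 1 0) q =
    foldIm [1, look (tabX.getD 2 0) 1, look (tabX.getD 4 0) 1, 8, look (tabX.getD 2 0) 8, look (tabX.getD 4 0) 8] q := by
  decide +kernel

theorem tabY_rest : ∀ q < 128, look (tabY.getD 0 0) q = q ∧
    look (tabY.getD 2 0) q = look (tabY.getD 1 0) (look (tabY.getD 1 0) q) := by decide +kernel

theorem y_image_A : ∀ q < 128, look (tabX.getD 6 0) q = qmul q (look (tabX.getD 4 0) q) →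
    q % 64 = 0 ∨ ∃ m < 7, q % 64 = look (tabX.getD m 0) 1 % 64 := by decide +kernel

theorem y_image_B : ∀ q < 128, look (tabX.getD 6 0) q = qmul q (look (tabX.getD 2 0) q) →
    q % 64 = 0 ∨ ∃ m < 7, q % 64 = look (tabX.getD m 0) 8 % 64 := by decide +kernel

theorem look_lt (T q : ℕ) : look T q < 128 := by
  have : (T >>> (7 * q)) &&& 127 ≤ 127 := Nat.and_le_right
  unfold look; omega

theorem shift_unique : ∀ k < 7, (∀ i < 7, fPair.getD ((2 * i % 7 + (7 - k % 7)) % 7 % 7) false = fPair.getD i false) →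
    k = 0 := by decide +kernel

/-- The pairings with the six generators determine a code up to the central bit. -/
def sig (q : ℕ) : List Bool :=
  (List.range 3).map (fun i => pairB (q / 8 % 8) (2 ^ i)) ++ (List.range 3).map (fun j => pairB (2 ^ j) (q % 8))

theorem sig_inj : ∀ p < 128, ∀ q < 128, sig p = sig q → p % 64 = q % 64 := by decide +kernel

theorem code_cases : ∀ p < 128, ∀ q < 128, p % 64 = q % 64 →
    p = q ∨ (p = qmul q 64 ∧ q.testBit 6 ≠ p.testBit 6) := by decide +kernel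

variable {H : Type*} [Group H]

/-- The product of the chosen conjugates of `a`. -/
def gA (x a : H) (n : ℕ) : H :=
  (if n.testBit 0 then a else 1) * (if n.testBit 1 then sh x 1 a else 1) * (if n.testBit 2 then sh x 2 a else 1)

/-- The element with a given code. -/
def phi (z x a b : H) (q : ℕ) : H := gA x a (q % 8) * gA x b (q / 8 % 8) * zb z (q.testBit 6)

theorem gA_one (x a : H) : gA x a 0 = 1 := by simp [gA]

theorem phi_gens (z x a b : H) :
    phi z x a b 0 = 1 ∧ phi z x a b 1 = a ∧ phi z x a b 2 = sh x 1 a ∧ phi z x a b 4 = sh x 2 a ∧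
    phi z x a b 8 = b ∧ phi z x a b 16 = sh x 1 b ∧ phi z x a b 32 = sh x 2 b ∧ phi z x a b 64 = z := by
  simp [phi, gA, zb, Nat.testBit, Nat.shiftRight_eq_div_pow]

variable [Finite H] {π : H →* L168} {z x a b : H} (C : Ctx π z) (D : Halves π z x a b)
include D

omit [Finite H] in
theorem Halves.gA_mem_a (n : ℕ) : gA x a n ∈ π.ker := by
  unfold gA
  refine mul_mem (mul_mem ?_ ?_) ?_ <;> split <;>
    first | exact D.ka | exact sh_mem x _ D.ka | exact one_mem _

omit [Finite H] in
theorem Halves.gA_mem_b (n : ℕ) : gA x b n ∈ π.ker := by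
  unfold gA
  refine mul_mem (mul_mem ?_ ?_) ?_ <;> split <;>
    first | exact D.kb | exact sh_mem x _ D.kb | exact one_mem _

include C

omit [Finite H] in
theorem Halves.phi_mem (q : ℕ) : phi z x a b q ∈ π.ker :=
  mul_mem (mul_mem (D.gA_mem_a _) (D.gA_mem_b _)) (C.zb_mem _)

omit [Finite H] D in
theorem Ctx.half_mul {p : H} (hp : p ∈ π.ker) (h2 : p * p = 1) (hiso : ∀ i, cm p (sh x i p) = false)
    (hx : x ^ 7 = 1) (n m : ℕ) : gA x p (n ^^^ m) = gA x p n * gA x p m := by
  have hc : ∀ i j, Commute (sh x i p) (sh x j p) := fun i j => by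
    have h := C.swap (sh_mem x i hp) (sh_mem x j hp)
    rw [C.cm_sh_sub hx hp hp, hiso, zb_false, mul_one] at h
    exact h
  have hs : ∀ i, sh x i p * sh x i p = 1 := fun i => by rw [← sh_mul, h2]; simp [sh]
  have hsq : ∀ (i : ℕ) (u v : Bool), (if xor u v then sh x i p else 1) =
      (if u then sh x i p else 1) * (if v then sh x i p else 1) := fun i u v => by
    cases u <;> cases v <;> simp [hs]
  have hcb : ∀ (i j : ℕ) (u v : Bool), Commute (if u then sh x i p else 1) (if v then sh x j p else 1) :=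
    fun i j u v => by cases u <;> cases v <;> simp [hc i j, Commute.one_left, Commute.one_right]
  unfold gA
  simp only [Nat.testBit_xor]
  rw [← sh_zero x p] at *
  simp only [sh_sh, Nat.add_zero] at *
  rw [hsq 0, hsq 1, hsq 2]
  set a0 := (if n.testBit 0 then sh x 0 p else 1)
  set b0 := (if m.testBit 0 then sh x 0 p else 1)
  set a1 := (if n.testBit 1 then sh x 1 p else 1)
  set b1 := (if m.testBit 1 then sh x 1 p else 1)
  set a2 := (if n.testBit 2 then sh x 2 p else 1)
  set b2 := (if m.testBit 2 then sh x 2 p else 1)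
  have e1 : Commute b0 a1 := hcb 0 1 _ _
  have e2 : Commute (b0 * b1) a2 := (hcb 0 2 _ _).mul_left (hcb 1 2 _ _)
  calc a0 * b0 * (a1 * b1) * (a2 * b2) = a0 * (b0 * a1) * b1 * (a2 * b2) := by group
    _ = a0 * (a1 * b0) * b1 * (a2 * b2) := by rw [e1.eq]
    _ = a0 * a1 * ((b0 * b1) * a2) * b2 := by group
    _ = a0 * a1 * (a2 * (b0 * b1)) * b2 := by rw [e2.eq]
    _ = a0 * a1 * a2 * (b0 * b1 * b2) := by group

omit [Finite H] in
theorem Halves.cm_pair (hx : x ^ 7 = 1) {n m : ℕ} (hn : n < 8) (hm : m < 8) :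
    cm (gA x b n) (gA x a m) = pairB n m := by
  have hone : ∀ q ∈ π.ker, cm 1 q = false := fun q hq => C.cm_zb (b := false) hq
  have mb : ∀ (u : Bool) (j : ℕ), (if u then sh x j b else 1) ∈ π.ker := fun u j => by
    split <;> first | exact sh_mem x _ D.kb | exact one_mem _
  have ma : ∀ (u : Bool) (j : ℕ), (if u then sh x j a else 1) ∈ π.ker := fun u j => by
    split <;> first | exact sh_mem x _ D.ka | exact one_mem _
  have term : ∀ j i, cm (if n.testBit j then sh x j b else 1) (if m.testBit i then sh x i a else 1) =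
      pairTerm n m j i := fun j i => by
    unfold pairTerm
    cases hn' : n.testBit j <;> cases hm' : m.testBit i <;> simp [hone, sh_mem x _ D.ka, sh_mem x _ D.kb,
      C.cm_symm (one_mem _) (sh_mem x j D.kb), C.cm_sh_sub hx D.kb D.ka, D.ab]
  have row : ∀ j, cm (if n.testBit j then sh x j b else 1) (gA x a m) = pairRow n m j := fun j => by
    rw [pairRow, ← term j 0, ← term j 1, ← term j 2]
    unfold gA
    rw [show (if m.testBit 0 then a else 1) = (if m.testBit 0 then sh x 0 a else 1) by rw [sh_zero],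
      C.cm_mul_right (mb _ _) (mul_mem (ma _ _) (ma _ _)) (ma _ _), C.cm_mul_right (mb _ _) (ma _ _) (ma _ _)]
  rw [← pair_expand n hn m hm, ← row 0, ← row 1, ← row 2]
  show cm ((if n.testBit 0 then b else 1) * (if n.testBit 1 then sh x 1 b else 1) * _) _ = _
  rw [show (if n.testBit 0 then b else 1) = (if n.testBit 0 then sh x 0 b else 1) by rw [sh_zero],
    C.cm_mul_left (mul_mem (mb _ _) (mb _ _)) (mb _ _) (D.gA_mem_a _),
    C.cm_mul_left (mb _ _) (mb _ _) (D.gA_mem_a _)]

omit [Finite H] in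
theorem Halves.phi_mul (hx : x ^ 7 = 1) {p q : ℕ} (hp : p < 128) (hq : q < 128) :
    phi z x a b (qmul p q) = phi z x a b p * phi z x a b q := by
  obtain ⟨e1, e2, -, e3⟩ := qmul_parts p hp q hq
  unfold phi
  rw [e1, e2, e3, C.half_mul D.ka D.a2 D.aa hx, C.half_mul D.kb D.b2 D.bb hx, ← C.zb_mul, ← C.zb_mul]
  set A1 := gA x a (p % 8)
  set A2 := gA x a (q % 8)
  set B1 := gA x b (p / 8 % 8)
  set B2 := gA x b (q / 8 % 8)
  set Z1 := zb z (p.testBit 6)
  set Z2 := zb z (q.testBit 6)
  have hsw : B1 * A2 = A2 * B1 * zb z (pairB (p / 8 % 8) (q % 8)) := by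
    rw [C.swap (D.gA_mem_b _) (D.gA_mem_a _), D.cm_pair C hx (Nat.mod_lt _ (by norm_num)) (Nat.mod_lt _ (by norm_num))]
  set Z3 := zb z (pairB (p / 8 % 8) (q % 8))
  have c1 : ∀ h : H, Z1 * h = h * Z1 := fun h => (C.zb_comm _ h).symm
  have c3 : ∀ h : H, Z3 * h = h * Z3 := fun h => (C.zb_comm _ h).symm
  calc A1 * A2 * (B1 * B2) * (Z1 * Z2 * Z3) = A1 * A2 * B1 * (B2 * (Z1 * Z2) * Z3) := by group
    _ = A1 * A2 * B1 * (Z3 * (B2 * (Z1 * Z2))) := by rw [c3]
    _ = A1 * (A2 * B1 * Z3) * (B2 * (Z1 * Z2)) := by group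
    _ = A1 * B1 * (A2 * (B2 * (Z1 * Z2))) := by rw [← hsw]; group
    _ = A1 * B1 * (A2 * (B2 * Z1) * Z2) := by group
    _ = A1 * B1 * (A2 * (Z1 * B2) * Z2) := by rw [c1]
    _ = A1 * B1 * ((A2 * Z1) * B2 * Z2) := by group
    _ = A1 * B1 * ((Z1 * A2) * B2 * Z2) := by rw [c1]
    _ = A1 * B1 * Z1 * (A2 * B2 * Z2) := by group

omit [Finite H] in
theorem Halves.phi_foldIm (hx : x ^ 7 = 1) (im : List ℕ) (him : ∀ k, im.getD k 0 < 128) (q : ℕ) :
    phi z x a b (foldIm im q) =
      (if q.testBit 0 then phi z x a b (im.getD 0 0) else 1) * (if q.testBit 1 then phi z x a b (im.getD 1 0) else 1) *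
        (if q.testBit 2 then phi z x a b (im.getD 2 0) else 1) *
      ((if q.testBit 3 then phi z x a b (im.getD 3 0) else 1) * (if q.testBit 4 then phi z x a b (im.getD 4 0) else 1) *
        (if q.testBit 5 then phi z x a b (im.getD 5 0) else 1)) * (if q.testBit 6 then z else 1) := by
  obtain ⟨g0, -, -, -, -, -, -, g64⟩ := phi_gens z x a b
  have hbit : ∀ (u : Bool) (n : ℕ), n < 128 → (if u then n else 0) < 128 := fun u n hn => by
    cases u <;> simp [hn]
  have hphi : ∀ (u : Bool) (n : ℕ), phi z x a b (if u then n else 0) = if u then phi z x a b n else 1 := fun u n => by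
    cases u <;> simp [g0]
  unfold foldIm
  rw [D.phi_mul C hx (qmul_lt _ _) (hbit _ 64 (by norm_num)), D.phi_mul C hx (qmul_lt _ _) (qmul_lt _ _),
    D.phi_mul C hx (qmul_lt _ _) (hbit _ _ (him 2)), D.phi_mul C hx (hbit _ _ (him 0)) (hbit _ _ (him 1)),
    D.phi_mul C hx (qmul_lt _ _) (hbit _ _ (him 5)), D.phi_mul C hx (hbit _ _ (him 3)) (hbit _ _ (him 4))]
  simp only [hphi, g64]

omit [Finite H] in
/-- Conjugation in coordinates. -/
theorem Halves.conj_phi (hx : x ^ 7 = 1) (g : H) (im : List ℕ) (him : ∀ k, im.getD k 0 < 128)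
    (h : ∀ k, k < 6 → g * phi z x a b (2 ^ k) * g⁻¹ = phi z x a b (im.getD k 0)) {q : ℕ} (hq : q < 128) :
    g * phi z x a b q * g⁻¹ = phi z x a b (foldIm im q) := by
  have hc : ∀ p r : H, MulAut.conj g (p * r) = MulAut.conj g p * MulAut.conj g r := map_mul _
  have hz : MulAut.conj g z = z := by rw [MulAut.conj_apply, C.zcen, mul_inv_cancel_right]
  have hite : ∀ (u : Bool) (p r : H), MulAut.conj g p = r →
      MulAut.conj g (if u then p else 1) = if u then r else 1 := fun u p r hpr => by cases u <;> simp [hpr]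
  have hk : ∀ k, k < 6 → MulAut.conj g (phi z x a b (([1, 2, 4, 8, 16, 32] : List ℕ).getD k 0)) =
      phi z x a b (im.getD k 0) := fun k hk => by
    rw [← h k hk, MulAut.conj_apply]
    interval_cases k <;> rfl
  have him0 : ∀ k, ([1, 2, 4, 8, 16, 32] : List ℕ).getD k 0 < 128 := fun k => by
    by_cases hk' : k < 6
    · interval_cases k <;> decide
    · rw [List.getD_eq_default _ _ (by simp; omega)]; norm_num
  conv_lhs => rw [← foldIm_parts q hq, D.phi_foldIm C hx _ him0]
  rw [D.phi_foldIm C hx im him, ← MulAut.conj_apply]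
  simp only [hc, hite _ _ _ (hk 0 (by norm_num)), hite _ _ _ (hk 1 (by norm_num)), hite _ _ _ (hk 2 (by norm_num)),
    hite _ _ _ (hk 3 (by norm_num)), hite _ _ _ (hk 4 (by norm_num)), hite _ _ _ (hk 5 (by norm_num)),
    hite _ _ _ hz]

omit [Finite H] in
theorem Halves.phi_cm_eq (hx : x ^ 7 = 1) (q : ℕ) :
    (List.range 3).map (fun i => cm (gA x b (q / 8 % 8)) (gA x a (2 ^ i))) ++
      (List.range 3).map (fun j => cm (gA x b (2 ^ j)) (gA x a (q % 8))) =
    (List.range 3).map (fun i => cm (phi z x a b q) (gA x a (2 ^ i))) ++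
      (List.range 3).map (fun j => cm (gA x b (2 ^ j)) (phi z x a b q)) := by
  have isoA : ∀ n m, cm (gA x a n) (gA x a m) = false := fun n m =>
    C.cm_eq (D.gA_mem_a n) (D.gA_mem_a m) (by
      rw [zb_false, mul_one, ← C.half_mul D.ka D.a2 D.aa hx, ← C.half_mul D.ka D.a2 D.aa hx, Nat.xor_comm])
  have isoB : ∀ n m, cm (gA x b n) (gA x b m) = false := fun n m =>
    C.cm_eq (D.gA_mem_b n) (D.gA_mem_b m) (by
      rw [zb_false, mul_one, ← C.half_mul D.kb D.b2 D.bb hx, ← C.half_mul D.kb D.b2 D.bb hx, Nat.xor_comm])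
  have e1 : ∀ m, cm (phi z x a b q) (gA x a m) = cm (gA x b (q / 8 % 8)) (gA x a m) := fun m => by
    unfold phi
    rw [C.cm_mul_left (mul_mem (D.gA_mem_a _) (D.gA_mem_b _)) (C.zb_mem _) (D.gA_mem_a _),
      C.cm_mul_left (D.gA_mem_a _) (D.gA_mem_b _) (D.gA_mem_a _), isoA, C.cm_zb (D.gA_mem_a _),
      Bool.false_xor, Bool.xor_false]
  have e2 : ∀ m, cm (gA x b m) (phi z x a b q) = cm (gA x b m) (gA x a (q % 8)) := fun m => by
    unfold phi
    rw [C.cm_mul_right (D.gA_mem_b _) (mul_mem (D.gA_mem_a _) (D.gA_mem_b _)) (C.zb_mem _),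
      C.cm_mul_right (D.gA_mem_b _) (D.gA_mem_a _) (D.gA_mem_b _), isoB,
      C.cm_symm (C.zb_mem _) (D.gA_mem_b _), C.cm_zb (D.gA_mem_b _), Bool.xor_false, Bool.xor_false]
  simp only [e1, e2]

omit [Finite H] in
theorem Halves.phi_inj (hx : x ^ 7 = 1) {p q : ℕ} (hp : p < 128) (hq : q < 128)
    (h : phi z x a b p = phi z x a b q) : p = q := by
  have e : ∀ q, sig q = (List.range 3).map (fun i => cm (gA x b (q / 8 % 8)) (gA x a (2 ^ i))) ++
      (List.range 3).map (fun j => cm (gA x b (2 ^ j)) (gA x a (q % 8))) := fun q => by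
    unfold sig
    have h8 : ∀ i < 3, (2 : ℕ) ^ i < 8 := fun i hi => by interval_cases i <;> norm_num
    congr 1 <;> refine List.map_congr_left fun i hi => ?_ <;> rw [List.mem_range] at hi
    · exact (D.cm_pair C hx (Nat.mod_lt _ (by norm_num)) (h8 i hi)).symm
    · exact (D.cm_pair C hx (h8 i hi) (Nat.mod_lt _ (by norm_num))).symm
  have hs : sig p = sig q := by rw [e, e, D.phi_cm_eq C hx p, D.phi_cm_eq C hx q, h]
  rcases code_cases p hp q hq (sig_inj p hp q hq hs) with h1 | ⟨h1, -⟩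
  · exact h1
  · exfalso
    rw [h1, D.phi_mul C hx hq (by norm_num), (phi_gens z x a b).2.2.2.2.2.2.2] at h
    exact C.z1 (mul_eq_left.1 h)

end CfsgLib.InvChar.HeRec.BFrame
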