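import Cfsg.Agent.Lib.InvChar.HeRec.BFrame.Assemble
import Cfsg.Agent.Lib.InvChar.HeRec.CCand
import Cfsg.Agent.Lib.Transfer.Extraspecial

/-!
# The centraliser of the involution is one of the candidates
-/

set_option autoImplicit false
set_option maxRecDepth 100000
set_option linter.style.haveILetI false

namespace CfsgLib.InvChar.HeRec

open Subgroup CModel BFrame
open scoped commutatorElement

variable {H : Type*} [Group H] [Finite H]

theorem BFrame.exists_rel {π : H →* L168} {z : H} (C : Ctx π z) (hπ : Function.Surjective π) :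
    ∃ (u : ℕ) (e : Bool) (φ : ℕ → H) (x y w : H), u < 2 ∧ Rel z φ u e x y w ∧
      Function.Surjective (fun c : Fin 21504 => psiOf φ x y w c) := by
  have h4 : ∀ q ∈ π.ker, q ^ 4 = 1 := fun q hq => by
    rw [show (4 : ℕ) = 2 * 2 from rfl, pow_mul, pow_two, pow_two]
    rcases C.sq q hq with h | h <;> rw [h]
    · exact one_mul 1
    · exact C.zz
  obtain ⟨x, y, w, L⟩ := exists_lifts π hπ C.card h4
  obtain ⟨-, rX1, -, -, rW, -, -, -⟩ := l_rel
  have hxL : π x ≠ 1 := by rw [L.hx]; exact rX1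
  obtain ⟨a, b, D, hya, hyb⟩ := C.exists_fixed_halves L.x7 hxL L.y3 L.yx
  have hww : w * w ∈ π.ker := π.mem_ker.2 (by rw [map_mul, L.hw, rW])
  have hxw : (x * w) ^ 3 ∈ π.ker := π.mem_ker.2 (by rw [map_pow, map_mul, L.hx, L.hw]; exact l_rel'.2)
  have hxw' : (x⁻¹ * w) ^ 3 ∈ π.ker := π.mem_ker.2 (by
    rw [map_pow, map_mul, map_inv, L.hx, L.hw]; exact l_rel'.1)
  obtain ⟨x', a', b', w', D', hx', hxx, hyx', hya', hyb', hw', hwy', u, hu, hW⟩ :=
    D.exists_good C L.x7 L.yx L.y3 hya hyb L.wy hww hxw hxw'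
  set φ := phi z x' a' b' with hφ
  have hcx := fun i hi q hq => D'.conj_x C hx' i hi q hq
  have hX : ∀ q < 128, x' * φ q * x'⁻¹ = φ (look (tabX.getD 1 0) q) := fun q hq => by
    show x' * phi z x' a' b' q * x'⁻¹ = phi z x' a' b' _
    rw [← hcx 1 (by norm_num) q hq, sh, pow_one]
  have hone : ∀ g : H, (∀ q < 128, g * φ q * g⁻¹ = φ q) → g = 1 ∨ g = z := fun g hg =>
    C.cen g fun q hq => by
      obtain ⟨c, hc, rfl⟩ := D'.phi_surj C hx' hq
      exact mul_inv_eq_iff_eq_mul.1 (hg c hc)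
  have hWW : w' * w' = 1 ∨ w' * w' = z := hone _ fun q hq => by
    calc w' * w' * φ q * (w' * w')⁻¹ = w' * (w' * φ q * w'⁻¹) * w'⁻¹ := by group
      _ = φ q := by rw [hW q hq, hW _ (look_lt _ _), (tabW_rel u hu q hq).1]
  have hXW : (x' * w') ^ 3 = 1 ∨ (x' * w') ^ 3 = z := hone _ fun q hq => by
    calc (x' * w') ^ 3 * φ q * ((x' * w') ^ 3)⁻¹
        = x' * (w' * (x' * (w' * (x' * (w' * φ q * w'⁻¹) * x'⁻¹) * w'⁻¹) * x'⁻¹) * w'⁻¹) * x'⁻¹ := by
          rw [pow_succ, pow_two]; group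
      _ = φ q := by
          rw [hW q hq, hX _ (look_lt _ _), hW _ (look_lt _ _), hX _ (look_lt _ _), hW _ (look_lt _ _),
            hX _ (look_lt _ _), (tabW_rel u hu q hq).2]
  obtain ⟨e, he⟩ : ∃ e, w' * w' = zb z e := by
    rcases hWW with h | h
    · exact ⟨false, h⟩
    · exact ⟨true, h⟩
  -- normalise the cube
  obtain ⟨d, hd⟩ : ∃ d : Bool, (x' * (w' * zb z d)) ^ 3 = 1 := by
    rcases hXW with h | h
    · exact ⟨false, by rw [zb_false, mul_one, h]⟩
    · refine ⟨true, ?_⟩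
      rw [zb_true, ← mul_assoc, (show Commute (x' * w') z from C.zcen _).mul_pow, h, pow_succ, pow_two, C.zz,
        one_mul, C.zz]
  have hzc : ∀ g : H, g * zb z d = zb z d * g := C.zb_comm d
  have hzz : zb z d * zb z d = 1 := by rw [C.zb_mul, Bool.xor_self, zb_false]
  set v := w' * zb z d with hv
  have hvc : ∀ p : H, v * p * v⁻¹ = w' * p * w'⁻¹ := fun p => by
    rw [hv, mul_inv_rev, mul_assoc w' (zb z d) p, ← hzc p]; group
  have R : Rel z φ u e x' y v :=
    { zcen := C.zcen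
      zz := C.zz
      x7 := hx'
      y3 := L.y3
      yx := hyx'
      wy := by rw [hvc, hwy']
      ww := by
        rw [hv, mul_assoc, ← mul_assoc (zb z d), ← hzc w', mul_assoc w' (zb z d), hzz, mul_one, he]
      xw := hd
      mul := fun p hp q hq => D'.phi_mul C hx' hp hq
      bit := ⟨(phi_gens z x' a' b').1, (phi_gens z x' a' b').2.2.2.2.2.2.2⟩
      cx := fun i hi q hq => hcx i hi q hq
      cy := D'.conj_y C hx' hyx' hya' hyb'
      cw := fun q hq => by rw [hvc]; exact hW q hq }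
  refine ⟨u, e, φ, x', y, v, hu, R, fun h => ?_⟩
  have hπv : π v = lW := by
    rw [hv, map_mul, π.mem_ker.1 (C.zb_mem d), mul_one, hw', L.hw]
  have key : ∃ n < 168, π (lamOf x' y v n) = π h := by
    have mk : ∀ (i : Fin 7) (j : Fin 3) (κ : ℕ), κ < 8 →
        lamOf x' y v (enc i.val j.val κ) = x' ^ i.val * y ^ j.val * tailOf x' v κ ∧ enc i.val j.val κ < 168 :=
      fun i j κ hκ => ⟨R.lam_enc _ _ hκ, by unfold enc; omega⟩
    have hgen : ∃ i : Fin 7, ∃ j : Fin 3, π h = π x' ^ i.val * lY ^ j.val ∨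
        ∃ k : Fin 7, π h = π x' ^ i.val * lY ^ j.val * lW * π x' ^ k.val := by
      rcases hxx with rfl | rfl
      · rw [L.hx]; exact l_gen _
      · rw [map_inv, L.hx]; exact l_gen' _
    obtain ⟨i, j, hij | ⟨k, hk⟩⟩ := hgen
    · refine ⟨_, (mk i j 0 (by norm_num)).2, ?_⟩
      rw [(mk i j 0 (by norm_num)).1, show tailOf x' v 0 = 1 from rfl, mul_one, map_mul, map_pow, map_pow, L.hy, hij]
    · refine ⟨_, (mk i j (k.val + 1) (by omega)).2, ?_⟩
      rw [(mk i j (k.val + 1) (by omega)).1, show tailOf x' v (k.val + 1) = v * x' ^ k.val from rfl, map_mul, map_mul,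
        map_mul, map_pow, map_pow, map_pow, L.hy, hπv, hk]
      simp only [mul_assoc]
  obtain ⟨n, hn, hπn⟩ := key
  obtain ⟨q, hq, hq'⟩ := D'.phi_surj C hx' (h := h * (lamOf x' y v n)⁻¹)
    (π.mem_ker.2 (by rw [map_mul, map_inv, hπn, mul_inv_cancel]))
  refine ⟨⟨q + 128 * n, by omega⟩, ?_⟩
  show psiOf φ x' y v (q + 128 * n) = h
  rw [psiOf, show (q + 128 * n) % 128 = q by omega, show (q + 128 * n) / 128 = n by omega]
  show phi z x' a' b' q * lamOf x' y v n = h
  rw [hq', inv_mul_cancel_right]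

theorem BFrame.card_eq {π : H →* L168} {z : H} (C : Ctx π z) (hπ : Function.Surjective π) :
    Nat.card H = 21504 := by
  rw [Subgroup.card_eq_card_quotient_mul_card_subgroup π.ker, C.card,
    Nat.card_congr (QuotientGroup.quotientKerEquivOfSurjective π hπ).toEquiv, card_L168]
  norm_num

universe v

/-- The centraliser is one of the four candidates. -/
theorem exists_cand_frame {G : Type v} [Group G] [Finite G] (t : G) (ht : orderOf t = 2)
    (Q : Subgroup (Subgroup.centralizer ({t} : Set G))) [Q.Normal] (hQ : Cfsg.IsExtraspecial 2 Q)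
    (hcard : Nat.card Q = 2 ^ 7) (h2c : Subgroup.centralizer (Q : Set (Subgroup.centralizer ({t} : Set G))) ≤ Q)
    (e : (Subgroup.centralizer ({t} : Set G)) ⧸ Q ≃* Matrix.SpecialLinearGroup (Fin 3) (ZMod 2)) :
    ∃ (u c : ℕ) (ψ : ℕ → G), u < 2 ∧ c < 2 ∧ IsCandFrame (cand u c) t ψ := by
  haveI : Fact (Nat.Prime 2) := ⟨Nat.prime_two⟩
  have htC : t ∈ (Subgroup.centralizer ({t} : Set G)) := Subgroup.mem_centralizer_singleton_iff.2 rfl
  let z : (Subgroup.centralizer ({t} : Set G)) := ⟨t, htC⟩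
  have hzc : ∀ h : (Subgroup.centralizer ({t} : Set G)), h * z = z * h := fun h => Subtype.ext (Subgroup.mem_centralizer_singleton_iff.1 h.2)
  have hzz : z * z = 1 := Subtype.ext (by
    show t * t = 1
    rw [← pow_two, ← ht, pow_orderOf_eq_one])
  have hz1 : z ≠ 1 := fun h => by
    rw [show t = 1 from congrArg Subtype.val h, orderOf_one] at ht
    omega
  have hzQ : z ∈ Q := h2c (Subgroup.mem_centralizer_iff.2 fun q _ => hzc q)
  have hcenter : Subgroup.center Q = Subgroup.zpowers ⟨z, hzQ⟩ :=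
    CfsgLib.Transfer.extraspecial_center_eq_zpowers hQ
      (Subgroup.mem_center_iff.2 fun q => Subtype.ext (hzc q)) fun h => hz1 (congrArg Subtype.val h)
  have inz : ∀ q : Q, q ∈ Subgroup.center Q → (q : (Subgroup.centralizer ({t} : Set G))) = 1 ∨ (q : (Subgroup.centralizer ({t} : Set G))) = z := by
    intro q hq
    rw [hcenter] at hq
    obtain ⟨i, rfl⟩ := hq
    have h2 : (⟨z, hzQ⟩ : Q) ^ (2 : ℤ) = 1 := Subtype.ext (by show z ^ (2 : ℤ) = 1; rw [zpow_two, hzz])
    rcases Int.even_or_odd i with ⟨k, rfl⟩ | ⟨k, rfl⟩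
    · left
      show ((((⟨z, hzQ⟩ : Q) ^ (k + k) : Q)) : (Subgroup.centralizer ({t} : Set G))) = 1
      rw [← two_mul, zpow_mul, h2, one_zpow]; rfl
    · right
      show ((((⟨z, hzQ⟩ : Q) ^ (2 * k + 1) : Q)) : (Subgroup.centralizer ({t} : Set G))) = z
      rw [zpow_add, zpow_mul, h2, one_zpow, one_mul, zpow_one]
  let π : (Subgroup.centralizer ({t} : Set G)) →* L168 := e.toMonoidHom.comp (QuotientGroup.mk' Q)
  have hker : π.ker = Q := by
    ext g
    simp [π]
  have C : Ctx π z :=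
    { zcen := hzc
      zz := hzz
      z1 := hz1
      card := by rw [hker, hcard]
      sq := fun q hq => by
        rw [hker] at hq
        have := hQ.1.2.1 ▸ CfsgLib.Transfer.pow_mem_frattini hQ.1.1 (⟨q, hq⟩ : Q)
        have h := inz _ this
        simpa [pow_two] using h
      comm := fun p hp q hq => by
        rw [hker] at hp hq
        have hc := CfsgLib.Transfer.special_commutatorElement_mem_center hQ.1 (⟨p, hp⟩ : Q) ⟨q, hq⟩
        have h := inz _ hc
        simp only [commutatorElement_def, Subgroup.coe_mul, Subgroup.coe_inv] at h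
        rcases h with h | h
        · left
          calc p * q = (p * q * p⁻¹ * q⁻¹) * (q * p) := by group
            _ = q * p := by rw [h, one_mul]
        · right
          calc p * q = (p * q * p⁻¹ * q⁻¹) * (q * p) := by group
            _ = q * p * z := by rw [h, ← hzc]
      cen := fun h hh => by
        have hhQ : h ∈ Q := h2c (Subgroup.mem_centralizer_iff.2 fun q hq => (hh q (hker.symm ▸ hq)).symm)
        exact inz ⟨h, hhQ⟩ (Subgroup.mem_center_iff.2 fun q => Subtype.ext (hh q (hker.symm ▸ q.2)).symm) }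
  have hπ : Function.Surjective π := e.surjective.comp (QuotientGroup.mk'_surjective Q)
  obtain ⟨u, ε, φ, x, y, w, hu, R, hs⟩ := BFrame.exists_rel C hπ
  have hb := (Nat.bijective_iff_surjective_and_card _).2 ⟨hs, by rw [BFrame.card_eq C hπ, Nat.card_fin]⟩
  refine ⟨u, ε.toNat, fun c => ((psiOf φ x y w c : (Subgroup.centralizer ({t} : Set G))) : G), hu, Bool.toNat_lt ε, ?_⟩
  constructor
  · intro a ha b hb'
    show ((psiOf φ x y w (cmul u ε.toNat a b) : (Subgroup.centralizer ({t} : Set G))) : G) = _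
    rw [(R.psi_mul (Finset.mem_range.1 ha) (Finset.mem_range.1 hb')).1, Subgroup.coe_mul]
  · intro a ha b hb' h
    exact Fin.mk.inj (hb.1 (a₁ := ⟨a, Finset.mem_range.1 ha⟩) (a₂ := ⟨b, Finset.mem_range.1 hb'⟩) (Subtype.ext h))
  · intro g
    refine ⟨fun hg => ?_, ?_⟩
    · obtain ⟨c, hc⟩ := hb.2 ⟨g, hg⟩
      exact ⟨c, Finset.mem_range.2 c.2, congrArg Subtype.val hc⟩
    · rintro ⟨c, -, rfl⟩
      exact Subtype.property _
  · show ((psiOf φ x y w 64 : (Subgroup.centralizer ({t} : Set G))) : G) = t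
    rw [psiOf, R.bit.2]
    show ((z * lamOf x y w 0 : (Subgroup.centralizer ({t} : Set G))) : G) = t
    simp [lamOf, tailOf, z]

end CfsgLib.InvChar.HeRec
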