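import Cfsg.Agent.Lib.InvChar.HeRec.BFrame.Quad
import Mathlib.GroupTheory.PGroup
import Mathlib.GroupTheory.GroupAction.ConjAct

/-!
# The element of order seven fixes only the centre of the extraspecial group; the two isotropic halves
-/

set_option autoImplicit false
set_option linter.style.haveILetI false

namespace CfsgLib.InvChar.HeRec.BFrame

open Subgroup

variable {H : Type*} [Group H] [Finite H] {π : H →* L168} {z : H}

/-- Conjugation by a power of `x`. -/
def sh (x : H) (n : ℕ) (p : H) : H := x ^ n * p * (x ^ n)⁻¹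

omit [Finite H] in
theorem sh_zero (x p : H) : sh x 0 p = p := by simp [sh]

omit [Finite H] in
theorem sh_mul (x : H) (n : ℕ) (p q : H) : sh x n (p * q) = sh x n p * sh x n q := by simp only [sh]; group

omit [Finite H] in
theorem sh_sh (x : H) (n m : ℕ) (p : H) : sh x n (sh x m p) = sh x (n + m) p := by
  simp [sh, pow_add, mul_assoc]

omit [Finite H] in
theorem sh_mem (x : H) (n : ℕ) {p : H} (hp : p ∈ π.ker) : sh x n p ∈ π.ker :=
  (MonoidHom.normal_ker π).conj_mem p hp _

omit [Finite H] in
theorem sh_mod {x : H} (hx : x ^ 7 = 1) (n : ℕ) (p : H) : sh x (n % 7) p = sh x n p := by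
  unfold sh; rw [← pow_eq_pow_mod n hx]

/-- `p * q⁻¹ ∈ {1, z}`. -/
def zeq (z p q : H) : Prop := p = q ∨ p = q * z

/-- The ordered product of the seven conjugates. -/
def norm7 (x q : H) : H :=
  q * sh x 1 q * sh x 2 q * sh x 3 q * sh x 4 q * sh x 5 q * sh x 6 q

omit [Finite H] in
theorem sh_norm7 {x : H} (hx : x ^ 7 = 1) (q : H) : sh x 1 (norm7 x q) = q⁻¹ * norm7 x q * q := by
  have e7 : sh x 7 q = q := by simp [sh, hx]
  simp only [norm7, sh_mul, sh_sh, Nat.reduceAdd, e7]
  group

variable (C : Ctx π z)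
include C

omit [Finite H] in
theorem Ctx.cm_sh (x : H) (n : ℕ) {p q : H} (hp : p ∈ π.ker) (hq : q ∈ π.ker) :
    cm (sh x n p) (sh x n q) = cm p q := C.cm_conj _ hp hq

omit [Finite H] in
theorem Ctx.norm7_fix {x q : H} (hx : x ^ 7 = 1) (hq : q ∈ π.ker) :
    norm7 x q ∈ π.ker ∧ x * norm7 x q * x⁻¹ = norm7 x q := by
  have hm : norm7 x q ∈ π.ker := by
    unfold norm7
    exact mul_mem (mul_mem (mul_mem (mul_mem (mul_mem (mul_mem hq (sh_mem x _ hq)) (sh_mem x _ hq))
      (sh_mem x _ hq)) (sh_mem x _ hq)) (sh_mem x _ hq)) (sh_mem x _ hq)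
  refine ⟨hm, C.fix_mem hx hm ?_⟩
  have h := sh_norm7 hx q
  rw [sh, pow_one] at h
  rw [h, mul_assoc, C.swap hm hq]
  cases cm (norm7 x q) q
  · exact Or.inl (by rw [zb_false, mul_one, inv_mul_cancel_left])
  · exact Or.inr (by rw [zb_true, mul_assoc q, inv_mul_cancel_left])

theorem Ctx.fix_only {x : H} (hx : x ^ 7 = 1) (hxL : π x ≠ 1) {p : H} (hp : p ∈ π.ker)
    (hpx : x * p * x⁻¹ = p) : p = 1 ∨ p = z := by
  classical
  by_contra hne
  push Not at hne
  set W : Subgroup H := π.ker ⊓ centralizer ({x} : Set H) with hW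
  have memW : ∀ {q : H}, q ∈ W ↔ q ∈ π.ker ∧ x * q * x⁻¹ = q := fun {q} => by
    rw [hW, mem_inf, mem_centralizer_singleton_iff, mul_inv_eq_iff_eq_mul]
    exact and_congr_right fun _ => eq_comm
  -- every non-central element of `W` has a partner in `W`
  have partner : ∀ w ∈ W, w ≠ 1 → w ≠ z → ∃ v ∈ W, cm w v = true := fun w hw h1 h2 => by
    obtain ⟨hwk, hwx⟩ := memW.1 hw
    obtain ⟨q, hq, hc⟩ := C.exists_cm hwk h1 h2
    obtain ⟨hm, hfx⟩ := C.norm7_fix hx hq
    refine ⟨norm7 x q, memW.2 ⟨hm, hfx⟩, ?_⟩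
    have hsame : ∀ n, cm w (sh x n q) = true := fun n => by
      have hs : sh x n w = w := by
        have hc' : Commute (x ^ n) w := (show Commute x w from mul_inv_eq_iff_eq_mul.1 hwx).pow_left n
        rw [sh, hc'.eq, mul_inv_cancel_right]
      rw [← hs, C.cm_sh x n hwk hq, hc]
    have m : ∀ n, sh x n q ∈ π.ker := fun n => sh_mem x n hq
    unfold norm7
    rw [C.cm_mul_right hwk (mul_mem (mul_mem (mul_mem (mul_mem (mul_mem hq (m _)) (m _)) (m _)) (m _)) (m _)) (m _),
      C.cm_mul_right hwk (mul_mem (mul_mem (mul_mem (mul_mem hq (m _)) (m _)) (m _)) (m _)) (m _),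
      C.cm_mul_right hwk (mul_mem (mul_mem (mul_mem hq (m _)) (m _)) (m _)) (m _),
      C.cm_mul_right hwk (mul_mem (mul_mem hq (m _)) (m _)) (m _),
      C.cm_mul_right hwk (mul_mem hq (m _)) (m _),
      C.cm_mul_right hwk hq (m _), hc, hsame, hsame, hsame, hsame, hsame, hsame]
    decide
  have hpW : p ∈ W := memW.2 ⟨hp, hpx⟩
  obtain ⟨w, hw, hc⟩ := partner p hpW hne.1 hne.2
  have hwk := (memW.1 hw).1
  -- the order of `W`
  have hcard : Nat.card W % 7 = 2 := by
    haveI : Fact (Nat.Prime 7) := ⟨by decide⟩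
    let P : Subgroup (ConjAct H) := zpowers (ConjAct.toConjAct x)
    have hP : IsPGroup 7 P := IsPGroup.of_card (n := 1) (by
      rw [Nat.card_zpowers, pow_one]
      refine orderOf_eq_prime (by rw [← map_pow, hx, map_one]) fun h => hxL ?_
      rw [show x = 1 from ConjAct.toConjAct.injective (h.trans (map_one _).symm), map_one])
    letI : MulAction P π.ker :=
      { smul := fun g q => ⟨(g : ConjAct H) • (q : H), by
          rw [ConjAct.smul_def]; exact (MonoidHom.normal_ker π).conj_mem _ q.2 _⟩
        one_smul := fun q => Subtype.ext (one_smul (ConjAct H) (q : H))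
        mul_smul := fun g h q => Subtype.ext (mul_smul (g : ConjAct H) (h : ConjAct H) (q : H)) }
    have h := hP.card_modEq_card_fixedPoints π.ker
    have he : MulAction.fixedPoints P π.ker ≃ W :=
      { toFun := fun q => ⟨q.1.1, memW.2 ⟨q.1.2, by
          have := congrArg Subtype.val (q.2 ⟨_, mem_zpowers _⟩)
          rw [← ConjAct.toConjAct_smul]
          exact this⟩⟩
        invFun := fun q => ⟨⟨q.1, (memW.1 q.2).1⟩, fun g => Subtype.ext (by
          show (g : ConjAct H) • (q : H) = (q : H)
          obtain ⟨i, hi⟩ := g.2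
          rw [← hi, ConjAct.smul_def, map_zpow, ConjAct.ofConjAct_toConjAct]
          have hc' : Commute (x ^ i) (q : H) :=
            (show Commute x (q : H) from mul_inv_eq_iff_eq_mul.1 (memW.1 q.2).2).zpow_left i
          rw [hc'.eq, mul_inv_cancel_right])⟩
        left_inv := fun q => Subtype.ext (Subtype.ext rfl)
        right_inv := fun q => Subtype.ext rfl }
    rw [C.card] at h
    rw [← Nat.card_congr he]
    exact h.symm.trans rfl
  have hdvd : Nat.card W ∣ 2 ^ 7 := C.card ▸ card_dvd_of_le inf_le_left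
  have h128 : Nat.card W ≠ 128 := fun h => by
    have heq : W = π.ker := eq_of_le_of_card_ge inf_le_left (by rw [h, C.card]; norm_num)
    obtain h1 | h1 := C.cen x fun q hq => mul_inv_eq_iff_eq_mul.1 (memW.1 (heq ▸ hq : q ∈ W)).2
    · exact hxL (by rw [h1, map_one])
    · exact hxL (by rw [h1, π.mem_ker.1 C.z_mem])
  have h16 : Nat.card W ≤ 16 := by
    obtain ⟨i, hi, hi'⟩ := (Nat.dvd_prime_pow (by decide)).1 hdvd
    rw [hi'] at hcard h128 ⊢
    interval_cases i <;> simp_all
  have hzW : z ∈ W := memW.2 ⟨C.z_mem, by rw [C.zcen, mul_inv_eq_iff_eq_mul]⟩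
  have hzb : ∀ b, zb z b ∈ W := fun b => by
    cases b
    · exact one_mem _
    · exact hzW
  -- a third element outside the span of `p`, `w`, `z`
  let f : Bool × Bool × Bool → W := fun t =>
    ⟨(if t.1 then p else 1) * (if t.2.1 then w else 1) * zb z t.2.2, mul_mem (mul_mem
      (by split <;> first | exact hpW | exact one_mem _) (by split <;> first | exact hw | exact one_mem _)) (hzb _)⟩
  obtain ⟨u0, hu0⟩ : ∃ u0 : W, ∀ t, f t ≠ u0 := by
    by_contra hall
    push Not at hall
    have h8 : Nat.card W ≤ Nat.card (Bool × Bool × Bool) := Nat.card_le_card_of_surjective f hall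
    have hinj : Function.Injective f := by
      intro s t hst
      have hv := congrArg Subtype.val hst
      simp only [f] at hv
      have key : ∀ t : Bool × Bool × Bool,
          cm ((if t.1 then p else 1) * (if t.2.1 then w else 1) * zb z t.2.2) w = t.1 ∧
          cm ((if t.1 then p else 1) * (if t.2.1 then w else 1) * zb z t.2.2) p = t.2.1 := by
        intro t
        have hone : ∀ q ∈ π.ker, cm 1 q = false := fun q hq => C.cm_zb (b := false) hq
        rcases t with ⟨a, b, e⟩
        cases a <;> cases b <;>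
          simp [C.cm_mul_left, hp, hwk, one_mem, mul_mem hp hwk, C.zb_mem e, C.cm_zb, hone,
            C.cm_self hp, C.cm_self hwk, hc, C.cm_symm hp hwk]
      obtain ⟨s1, s2⟩ := key s
      obtain ⟨t1, t2⟩ := key t
      rw [hv] at s1 s2
      have e1 : s.1 = t.1 := s1.symm.trans t1
      have e2 : s.2.1 = t.2.1 := s2.symm.trans t2
      rw [e1, e2] at hv
      exact Prod.ext e1 (Prod.ext e2 (C.zb_inj (mul_left_cancel hv)))
    have h8' := Nat.card_le_card_of_injective f hinj
    simp only [Nat.card_prod, Nat.card_eq_fintype_card, Fintype.card_prod, Fintype.card_bool] at h8 h8'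
    have : Nat.card W = 8 := by omega
    rw [this] at hcard
    omega
  have hone : ∀ q ∈ π.ker, cm 1 q = false := fun q hq => C.cm_zb (b := false) hq
  -- adjust an element of `W` to commute with `p` and `w`
  have adjust : ∀ r ∈ W, ∃ a b : Bool, cm (((if a then p else 1) * (if b then w else 1))⁻¹ * r) p = false ∧
      cm (((if a then p else 1) * (if b then w else 1))⁻¹ * r) w = false ∧
      ((if a then p else 1) * (if b then w else 1))⁻¹ ∈ W := by
    intro r hr
    have hrk := (memW.1 hr).1
    refine ⟨cm r w, cm r p, ?_⟩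
    set v := (if cm r w then p else 1) * (if cm r p then w else 1) with hv
    have hvW : v ∈ W := by
      rw [hv]
      exact mul_mem (by split <;> first | exact hpW | exact one_mem _) (by split <;> first | exact hw | exact one_mem _)
    have hvk := (memW.1 hvW).1
    have hinv : ∀ q ∈ π.ker, cm v⁻¹ q = cm v q := fun q hq => by
      have h := C.cm_mul_left (inv_mem hvk) hvk hq
      rw [inv_mul_cancel, hone q hq] at h
      revert h
      cases cm v⁻¹ q <;> cases cm v q <;> simp
    refine ⟨?_, ?_, inv_mem hvW⟩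
    · rw [C.cm_mul_left (inv_mem hvk) hrk hp, hinv p hp, hv]
      rcases Bool.eq_false_or_eq_true (cm r w) with h1 | h1 <;>
        rcases Bool.eq_false_or_eq_true (cm r p) with h2 | h2 <;>
          simp [h1, h2, hone, C.cm_mul_left, hp, hwk, C.cm_self hp, hc, C.cm_symm hp hwk]
    · rw [C.cm_mul_left (inv_mem hvk) hrk hwk, hinv w hwk, hv]
      rcases Bool.eq_false_or_eq_true (cm r w) with h1 | h1 <;>
        rcases Bool.eq_false_or_eq_true (cm r p) with h2 | h2 <;>
          simp [h1, h2, hone, C.cm_mul_left, hp, hwk, C.cm_self hwk, hc, C.cm_symm hp hwk]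
  obtain ⟨a, b, hup, huw, hau⟩ := adjust u0 u0.2
  set u := ((if a then p else 1) * (if b then w else 1))⁻¹ * (u0 : H) with hu
  have huW : u ∈ W := mul_mem hau u0.2
  have huk := (memW.1 huW).1
  have hu1 : ∀ e : Bool, u ≠ zb z e := fun e he => hu0 (a, b, e) (Subtype.ext (by
    show (if a then p else 1) * (if b then w else 1) * zb z e = (u0 : H)
    rw [← he, hu, mul_inv_cancel_left]))
  obtain ⟨v0, hv0, hcv⟩ := partner u huW (hu1 false) (hu1 true)
  obtain ⟨a', b', hvp, hvw, hav⟩ := adjust v0 hv0
  set v := ((if a' then p else 1) * (if b' then w else 1))⁻¹ * v0 with hv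
  have hvW : v ∈ W := mul_mem hav hv0
  have hvk := (memW.1 hvW).1
  have hpu : cm p u = false := by rw [C.cm_symm huk hp, hup]
  have hwu : cm w u = false := by rw [C.cm_symm huk hwk, huw]
  have hvu : cm v u = true := by
    have h0 := (memW.1 hv0).1
    have hX : ((if a' then p else 1) * (if b' then w else 1))⁻¹ ∈ π.ker := (memW.1 hav).1
    rw [hv, C.cm_mul_left hX h0 huk, C.cm_symm huk h0, hcv]
    have h1 := C.cm_mul_left hX (inv_mem hX) huk
    rw [mul_inv_cancel, hone u huk, inv_inv] at h1
    have h2 : cm ((if a' then p else 1) * (if b' then w else 1)) u = false := by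
      cases a' <;> cases b' <;> simp [hone, C.cm_mul_left, hp, hwk, huk, hpu, hwu]
    rw [h2] at h1
    revert h1
    cases cm ((if a' then p else 1) * (if b' then w else 1))⁻¹ u <;> simp
  have hpv : cm p v = false := by rw [C.cm_symm hvk hp, hvp]
  have hwv : cm w v = false := by rw [C.cm_symm hvk hwk, hvw]
  -- thirty-two elements of `W`
  let g : Bool × Bool × Bool × Bool × Bool → H := fun t =>
    (if t.1 then p else 1) * (if t.2.1 then w else 1) * (if t.2.2.1 then u else 1) *
      (if t.2.2.2.1 then v else 1) * zb z t.2.2.2.2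
  have key : ∀ t, cm (g t) w = t.1 ∧ cm (g t) p = t.2.1 ∧ cm (g t) v = t.2.2.1 ∧ cm (g t) u = t.2.2.2.1 := by
    rintro ⟨t1, t2, t3, t4, t5⟩
    have m1 : (if t1 then p else 1) ∈ π.ker := by split <;> first | exact hp | exact one_mem _
    have m2 : (if t2 then w else 1) ∈ π.ker := by split <;> first | exact hwk | exact one_mem _
    have m3 : (if t3 then u else 1) ∈ π.ker := by split <;> first | exact huk | exact one_mem _
    have m4 : (if t4 then v else 1) ∈ π.ker := by split <;> first | exact hvk | exact one_mem _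
    have expand : ∀ q ∈ π.ker, cm (g (t1, t2, t3, t4, t5)) q =
        xor (xor (xor (cm (if t1 then p else 1) q) (cm (if t2 then w else 1) q)) (cm (if t3 then u else 1) q))
          (cm (if t4 then v else 1) q) := fun q hq => by
      simp only [g]
      rw [C.cm_mul_left (mul_mem (mul_mem (mul_mem m1 m2) m3) m4) (C.zb_mem _) hq, C.cm_zb hq, Bool.xor_false,
        C.cm_mul_left (mul_mem (mul_mem m1 m2) m3) m4 hq, C.cm_mul_left (mul_mem m1 m2) m3 hq,
        C.cm_mul_left m1 m2 hq]
    have hwp : cm w p = true := by rw [C.cm_symm hp hwk, hc]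
    have huv : cm u v = true := by rw [C.cm_symm hvk huk, hvu]
    rw [expand w hwk, expand p hp, expand v hvk, expand u huk]
    cases t1 <;> cases t2 <;> cases t3 <;> cases t4 <;>
      simp [hone, hp, hwk, huk, hvk, C.cm_self hp, C.cm_self hwk, C.cm_self huk, C.cm_self hvk, hc, hwp,
        hup, huw, hvp, hvw, hpu, hwu, hpv, hwv, hvu, huv]
  have hginj : Function.Injective g := by
    intro s t hst
    obtain ⟨s1, s2, s3, s4⟩ := key s
    obtain ⟨t1, t2, t3, t4⟩ := key t
    rw [hst] at s1 s2 s3 s4
    have e1 : s.1 = t.1 := s1.symm.trans t1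
    have e2 : s.2.1 = t.2.1 := s2.symm.trans t2
    have e3 : s.2.2.1 = t.2.2.1 := s3.symm.trans t3
    have e4 : s.2.2.2.1 = t.2.2.2.1 := s4.symm.trans t4
    have h5 := hst
    simp only [g, e1, e2, e3, e4] at h5
    exact Prod.ext e1 (Prod.ext e2 (Prod.ext e3 (Prod.ext e4 (C.zb_inj (mul_left_cancel h5)))))
  have hgW : ∀ t, g t ∈ W := fun t => mul_mem (mul_mem (mul_mem (mul_mem
    (by split <;> first | exact hpW | exact one_mem _) (by split <;> first | exact hw | exact one_mem _))
    (by split <;> first | exact huW | exact one_mem _)) (by split <;> first | exact hvW | exact one_mem _)) (hzb _)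
  have h32 := Nat.card_le_card_of_injective (fun t => (⟨g t, hgW t⟩ : W))
    fun s t h => hginj (congrArg Subtype.val h)
  simp only [Nat.card_eq_fintype_card, Fintype.card_prod, Fintype.card_bool] at h32
  omega

end CfsgLib.InvChar.HeRec.BFrame
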