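import Cfsg.Agent.Lib.InvChar.HeRec.BFrame.FixPt

/-!
# Generators of the two isotropic halves of the extraspecial group
-/

set_option autoImplicit false
set_option maxRecDepth 100000

namespace CfsgLib.InvChar.HeRec.BFrame

open Subgroup

/-- The pairing of `b` with the conjugates of `a`. -/
def fPair : List Bool := [true, true, true, false, true, false, false]

theorem rec_both_zero : ∀ h : Fin 7 → Bool, (∀ i, h (i + 3) = xor (h i) (h (i + 2))) →
    (∀ i, h (i - 3) = xor (h i) (h (i - 2))) → ∀ i, h i = false := by decide +kernel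

theorem rec_bb_zero : ∀ h : Fin 7 → Bool, (∀ i, h (i + 3) = xor (h i) (h (i + 1))) →
    (∀ i, h (i - 3) = xor (h i) (h (i - 1))) → ∀ i, h i = false := by decide +kernel

theorem rec_shift : ∀ h : Fin 7 → Bool, (∀ i, h (i + 3) = xor (h i) (h (i + 2))) →
    (∀ i, h (i - 3) = xor (h i) (h (i - 1))) → (∃ i, h i = true) →
    ∃ s : Fin 7, ∀ i, h (i - s) = fPair.getD i.val false := by decide +kernel

theorem make_A : ∀ h : Fin 7 → Bool, xor (xor (xor (xor (xor (xor (h 0) (h 1)) (h 2)) (h 3)) (h 4)) (h 5)) (h 6) =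
    false → xor (xor (h 3) (h 4)) (h 6) =
      xor (xor (xor (h 0) (h 1)) (h 3)) (xor (xor (h 2) (h 3)) (h 5)) := by decide +kernel

theorem make_B : ∀ h : Fin 7 → Bool, xor (xor (xor (xor (xor (xor (h 0) (h 1)) (h 2)) (h 3)) (h 4)) (h 5)) (h 6) =
    false → xor (xor (h 3) (h 5)) (h 6) =
      xor (xor (xor (h 0) (h 2)) (h 3)) (xor (xor (h 1) (h 3)) (h 4)) := by decide +kernel

theorem xor_false_three : ∀ a b c : Bool, xor (xor a b) c = false → c = xor a b := by decide

variable {H : Type*} [Group H] [Finite H] {π : H →* L168} {z : H}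

/-- `T ^ 3 p = p * T ^ 2 p` modulo the centre. -/
def InA (z x p : H) : Prop := zeq z (sh x 3 p) (p * sh x 2 p)

/-- `T ^ 3 p = p * T p` modulo the centre. -/
def InB (z x p : H) : Prop := zeq z (sh x 3 p) (p * sh x 1 p)

/-- Generators `a`, `b` of the two halves. -/
structure Halves (π : H →* L168) (z x a b : H) : Prop where
  ka : a ∈ π.ker
  kb : b ∈ π.ker
  a2 : a * a = 1
  b2 : b * b = 1
  eA : sh x 3 a = a * sh x 2 a
  eB : sh x 3 b = b * sh x 1 b
  aa : ∀ i, cm a (sh x i a) = false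
  bb : ∀ i, cm b (sh x i b) = false
  ab : ∀ i, cm b (sh x i a) = fPair.getD (i % 7) false

variable (C : Ctx π z)
include C

omit [Finite H] in
theorem Ctx.zeq_of_cm {p q : H} (hp : p ∈ π.ker) (hq : q ∈ π.ker) (h : ∀ r ∈ π.ker, cm p r = cm q r) :
    zeq z p q := by
  have hc : q⁻¹ * p = 1 ∨ q⁻¹ * p = z := C.cen _ fun r hr => by
    have h1 : cm (q⁻¹ * p) r = false := by
      have h2 := C.cm_mul_left hq (mul_mem (inv_mem hq) hp) hr
      rw [mul_inv_cancel_left, h r hr] at h2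
      revert h2
      cases cm q r <;> cases cm (q⁻¹ * p) r <;> simp
    rw [C.swap (mul_mem (inv_mem hq) hp) hr, h1, zb_false, mul_one]
  rcases hc with h1 | h1
  · exact Or.inl (inv_mul_eq_one.1 h1).symm
  · exact Or.inr (inv_mul_eq_iff_eq_mul.1 h1)

omit [Finite H] in
theorem Ctx.cm_zeq {p q r : H} (hq : q ∈ π.ker) (hr : r ∈ π.ker) (h : zeq z p q) : cm p r = cm q r := by
  rcases h with rfl | rfl
  · rfl
  · have h1 := C.cm_mul_left hq (C.zb_mem true) hr
    rw [C.cm_zb hr, Bool.xor_false] at h1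
    exact h1

omit [Finite H] in
/-- The form on shifted elements only depends on the difference. -/
theorem Ctx.cm_sh_sub {x : H} (hx : x ^ 7 = 1) {p q : H} (hp : p ∈ π.ker) (hq : q ∈ π.ker) (k i : ℕ) :
    cm (sh x k p) (sh x i q) = cm p (sh x ((i + (7 - k % 7)) % 7) q) := by
  rw [← C.cm_sh x (7 - k % 7) (sh_mem x k hp) (sh_mem x i hq), sh_sh, sh_sh]
  rw [← sh_mod hx (7 - k % 7 + k) p, ← sh_mod hx (7 - k % 7 + i) q, show (7 - k % 7 + k) % 7 = 0 by omega, sh_zero,
    Nat.add_comm (7 - k % 7) i]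

omit [Finite H] in
theorem Ctx.rec_left {x : H} (hx : x ^ 7 = 1) {p q : H} (hp : p ∈ π.ker) (hq : q ∈ π.ker) {d : Fin 7}
    (hA : zeq z (sh x 3 p) (p * sh x d.val p)) (i : Fin 7) :
    cm p (sh x (i - 3).val q) = xor (cm p (sh x i.val q)) (cm p (sh x (i - d).val q)) := by
  have h := C.cm_zeq (mul_mem hp (sh_mem x _ hp)) (sh_mem x i.val hq) hA
  rw [C.cm_mul_left hp (sh_mem x _ hp) (sh_mem x _ hq), C.cm_sh_sub hx hp hq, C.cm_sh_sub hx hp hq] at h
  have e : ∀ i d : Fin 7, (i.val + (7 - d.val % 7)) % 7 = (i - d).val := by decide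
  rw [show (i.val + (7 - 3 % 7)) % 7 = (i - 3).val from e i 3, e i d] at h
  exact h

omit [Finite H] in
theorem Ctx.rec_right {x : H} (hx : x ^ 7 = 1) {p q : H} (hp : p ∈ π.ker) (hq : q ∈ π.ker) {d : Fin 7}
    (hA : zeq z (sh x 3 q) (q * sh x d.val q)) (i : Fin 7) :
    cm p (sh x (i + 3).val q) = xor (cm p (sh x i.val q)) (cm p (sh x (i + d).val q)) := by
  have hA' : zeq z (sh x (i.val + 3) q) (sh x i.val q * sh x (i.val + d.val) q) := by
    rw [← sh_sh, ← sh_sh x i.val d.val, ← sh_mul]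
    rcases hA with h | h
    · exact Or.inl (by rw [h])
    · exact Or.inr (by
        rw [h, sh_mul]
        congr 1
        rw [sh, C.zcen, mul_inv_cancel_right])
  have h := C.cm_zeq (mul_mem (sh_mem x _ hq) (sh_mem x _ hq)) hp hA'
  rw [C.cm_mul_left (sh_mem x _ hq) (sh_mem x _ hq) hp, C.cm_symm hp (sh_mem x _ hq), C.cm_symm hp (sh_mem x _ hq),
    C.cm_symm hp (sh_mem x _ hq)] at h
  rw [Fin.val_add, Fin.val_add, sh_mod hx, sh_mod hx]
  exact h

theorem Ctx.sum_seven {x : H} (hx : x ^ 7 = 1) (hxL : π x ≠ 1) {v r : H} (hv : v ∈ π.ker) (hr : r ∈ π.ker) :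
    xor (xor (xor (xor (xor (xor (cm (sh x 0 v) r) (cm (sh x 1 v) r)) (cm (sh x 2 v) r)) (cm (sh x 3 v) r))
      (cm (sh x 4 v) r)) (cm (sh x 5 v) r)) (cm (sh x 6 v) r) = false := by
  obtain ⟨hm, hf⟩ := C.norm7_fix hx hv
  have m : ∀ n, sh x n v ∈ π.ker := fun n => sh_mem x n hv
  have h0 : cm (norm7 x v) r = false := by
    rcases C.fix_only hx hxL hm hf with h | h <;> rw [h]
    · exact C.cm_zb (b := false) hr
    · exact C.cm_zb (b := true) hr
  rw [← h0]
  unfold norm7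
  rw [C.cm_mul_left (mul_mem (mul_mem (mul_mem (mul_mem (mul_mem hv (m _)) (m _)) (m _)) (m _)) (m _)) (m _) hr,
    C.cm_mul_left (mul_mem (mul_mem (mul_mem (mul_mem hv (m _)) (m _)) (m _)) (m _)) (m _) hr,
    C.cm_mul_left (mul_mem (mul_mem (mul_mem hv (m _)) (m _)) (m _)) (m _) hr,
    C.cm_mul_left (mul_mem (mul_mem hv (m _)) (m _)) (m _) hr, C.cm_mul_left (mul_mem hv (m _)) (m _) hr,
    C.cm_mul_left hv (m _) hr, sh_zero]

theorem Ctx.make_inA {x : H} (hx : x ^ 7 = 1) (hxL : π x ≠ 1) {v : H} (hv : v ∈ π.ker) :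
    InA z x (v * sh x 1 v * sh x 3 v) := by
  have m : ∀ n, sh x n v ∈ π.ker := fun n => sh_mem x n hv
  refine C.zeq_of_cm (sh_mem x _ (mul_mem (mul_mem hv (m _)) (m _)))
    (mul_mem (mul_mem (mul_mem hv (m _)) (m _)) (sh_mem x _ (mul_mem (mul_mem hv (m _)) (m _)))) fun r hr => ?_
  simp only [sh_mul, sh_sh, Nat.reduceAdd]
  rw [C.cm_mul_left (mul_mem (m _) (m _)) (m _) hr, C.cm_mul_left (m _) (m _) hr,
    C.cm_mul_left (mul_mem (mul_mem hv (m _)) (m _)) (mul_mem (mul_mem (m _) (m _)) (m _)) hr,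
    C.cm_mul_left (mul_mem hv (m _)) (m _) hr, C.cm_mul_left hv (m _) hr,
    C.cm_mul_left (mul_mem (m _) (m _)) (m _) hr, C.cm_mul_left (m _) (m _) hr]
  have h := make_A (fun i => cm (sh x i.val v) r) (C.sum_seven hx hxL hv hr)
  simp only [Fin.isValue, Fin.val_zero, Fin.val_one, sh_zero] at h
  exact h

theorem Ctx.make_inB {x : H} (hx : x ^ 7 = 1) (hxL : π x ≠ 1) {v : H} (hv : v ∈ π.ker) :
    InB z x (v * sh x 2 v * sh x 3 v) := by
  have m : ∀ n, sh x n v ∈ π.ker := fun n => sh_mem x n hv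
  refine C.zeq_of_cm (sh_mem x _ (mul_mem (mul_mem hv (m _)) (m _)))
    (mul_mem (mul_mem (mul_mem hv (m _)) (m _)) (sh_mem x _ (mul_mem (mul_mem hv (m _)) (m _)))) fun r hr => ?_
  simp only [sh_mul, sh_sh, Nat.reduceAdd]
  rw [C.cm_mul_left (mul_mem (m _) (m _)) (m _) hr, C.cm_mul_left (m _) (m _) hr,
    C.cm_mul_left (mul_mem (mul_mem hv (m _)) (m _)) (mul_mem (mul_mem (m _) (m _)) (m _)) hr,
    C.cm_mul_left (mul_mem hv (m _)) (m _) hr, C.cm_mul_left hv (m _) hr,
    C.cm_mul_left (mul_mem (m _) (m _)) (m _) hr, C.cm_mul_left (m _) (m _) hr]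
  have h := make_B (fun i => cm (sh x i.val v) r) (C.sum_seven hx hxL hv hr)
  simp only [Fin.isValue, Fin.val_zero, Fin.val_one, sh_zero] at h
  exact h

omit [Finite H] in
/-- Adjust an element of one half so that the relation holds exactly; it is then an involution. -/
theorem Ctx.exact_half {x : H} (hx : x ^ 7 = 1) {a : H} (ha : a ∈ π.ker) {d : Fin 7}
    (h : zeq z (sh x 3 a) (a * sh x d.val a)) (hiso : ∀ i : Fin 7, cm a (sh x i.val a) = false) :
    ∃ a' : H, zeq z a a' ∧ a' ∈ π.ker ∧ sh x 3 a' = a' * sh x d.val a' ∧ a' * a' = 1 := by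
  have hsh : ∀ (n : ℕ) (p : H), sh x n (p * z) = sh x n p * z := fun n p => by
    rw [sh_mul]
    congr 1
    rw [sh, C.zcen, mul_inv_cancel_right]
  obtain ⟨e, he1, he2⟩ : ∃ a', zeq z a a' ∧ sh x 3 a' = a' * sh x d.val a' := by
    rcases h with h | h
    · exact ⟨a, Or.inl rfl, h⟩
    · refine ⟨a * z, Or.inr (by rw [mul_assoc, C.zz, mul_one]), ?_⟩
      rw [hsh, hsh, h, mul_assoc a z, ← mul_assoc z, ← C.zcen, mul_assoc (sh x d.val a), C.zz, mul_one, mul_assoc,
        C.zz, mul_one]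
  have hek : e ∈ π.ker := by
    rcases he1 with h1 | h1
    · exact h1 ▸ ha
    · have : e = a * z := by rw [h1, mul_assoc, C.zz, mul_one]
      exact this ▸ mul_mem ha C.z_mem
  refine ⟨e, he1, hek, he2, ?_⟩
  have hc : e * sh x d.val e = sh x d.val e * e := by
    have h1 := C.swap hek (sh_mem x d.val hek)
    have h2 : cm e (sh x d.val e) = false := by
      rw [← C.cm_zeq hek (sh_mem x _ hek) he1, C.cm_symm (sh_mem x _ hek) ha]
      have he1' : zeq z (sh x d.val a) (sh x d.val e) := by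
        rcases he1 with h3 | h3
        · exact Or.inl (by rw [h3])
        · exact Or.inr (by rw [h3, hsh])
      rw [← C.cm_zeq (sh_mem x _ hek) ha he1', C.cm_symm ha (sh_mem x _ ha), hiso]
    rwa [h2, zb_false, mul_one] at h1
  have hsq : ∀ n, sh x n e * sh x n e = e * e := fun n => by
    rw [← sh_mul]
    rcases C.sq e hek with h1 | h1 <;> rw [h1]
    · simp [sh]
    · rw [sh, C.zcen, mul_inv_cancel_right]
  have h1 : sh x 3 e * sh x 3 e = e * e * (sh x d.val e * sh x d.val e) := by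
    rw [he2]
    simp only [mul_assoc]
    rw [← mul_assoc (sh x d.val e) e, ← hc, mul_assoc]
  rw [hsq, hsq] at h1
  exact mul_left_cancel (a := e * e) (by rw [mul_one]; exact h1.symm)

theorem Ctx.exists_halves {x : H} (hx : x ^ 7 = 1) (hxL : π x ≠ 1) : ∃ a b : H, Halves π z x a b := by
  have hone : ∀ q ∈ π.ker, cm 1 q = false := fun q hq => C.cm_zb (b := false) hq
  have isoA : ∀ {p q : H}, p ∈ π.ker → q ∈ π.ker → InA z x p → InA z x q → ∀ i : Fin 7, cm p (sh x i.val q) = false :=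
    fun hp hq hA hA' => rec_both_zero _ (fun i => C.rec_right hx hp hq (d := 2) hA' i)
      (fun i => C.rec_left hx hp hq (d := 2) hA i)
  have isoB : ∀ {p q : H}, p ∈ π.ker → q ∈ π.ker → InB z x p → InB z x q → ∀ i : Fin 7, cm p (sh x i.val q) = false :=
    fun hp hq hA hA' => rec_bb_zero _ (fun i => C.rec_right hx hp hq (d := 1) hA' i)
      (fun i => C.rec_left hx hp hq (d := 1) hA i)
  -- a non-central element of the first half
  obtain ⟨a0, ha0, hA0, w, hw, hw'⟩ : ∃ a0 ∈ π.ker, InA z x a0 ∧ ∃ w ∈ π.ker, cm a0 w = true := by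
    by_contra hcon
    push Not at hcon
    have allB : ∀ v ∈ π.ker, InB z x v := fun v hv => by
      refine C.zeq_of_cm (sh_mem x _ hv) (mul_mem hv (sh_mem x _ hv)) fun r hr => ?_
      have m : ∀ n, sh x n v ∈ π.ker := fun n => sh_mem x n hv
      have h := Bool.eq_false_of_not_eq_true
        (hcon _ (mul_mem (mul_mem hv (m _)) (m _)) (C.make_inA hx hxL hv) r hr)
      rw [C.cm_mul_left (mul_mem hv (m _)) (m _) hr, C.cm_mul_left hv (m _) hr] at h
      rw [C.cm_mul_left hv (m _) hr]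
      exact xor_false_three _ _ _ h
    obtain ⟨v, hv, hv1, hv2⟩ : ∃ v ∈ π.ker, v ≠ 1 ∧ v ≠ z := by
      by_contra hall
      push Not at hall
      have h2 : Nat.card π.ker ≤ Nat.card Bool := Nat.card_le_card_of_surjective
        (fun b => (⟨zb z b, C.zb_mem b⟩ : π.ker)) fun q => by
          by_cases h1 : (q : H) = 1
          · exact ⟨false, Subtype.ext (by rw [h1]; rfl)⟩
          · exact ⟨true, Subtype.ext (by rw [hall q q.2 h1]; rfl)⟩
      rw [C.card, Nat.card_eq_fintype_card, Fintype.card_bool] at h2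
      norm_num at h2
    obtain ⟨q, hq, hc⟩ := C.exists_cm hv hv1 hv2
    have := isoB hv hq (allB v hv) (allB q hq) 0
    rw [Fin.val_zero, sh_zero, hc] at this
    exact Bool.noConfusion this
  -- the partner in the second half
  have m : ∀ n, sh x n w ∈ π.ker := fun n => sh_mem x n hw
  set b0 := w * sh x 2 w * sh x 3 w with hb0d
  have hb0 : b0 ∈ π.ker := mul_mem (mul_mem hw (m _)) (m _)
  have hB0 : InB z x b0 := C.make_inB hx hxL hw
  have hne : ∃ i : Fin 7, cm b0 (sh x i.val a0) = true := by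
    by_contra hall
    push Not at hall
    have hw0 := rec_both_zero (fun i : Fin 7 => cm a0 (sh x i.val w)) (fun i => ?_)
      (fun i => C.rec_left hx ha0 hw (d := 2) hA0 i) 0
    · simp only [Fin.val_zero, sh_zero] at hw0
      rw [hw'] at hw0
      exact Bool.noConfusion hw0
    · have h0 : cm a0 (sh x i.val b0) = false := by
        have h := Bool.eq_false_of_not_eq_true (hall (-i))
        rw [← C.cm_sh x i.val hb0 (sh_mem x _ ha0), sh_sh, ← sh_mod hx (i.val + (-i).val), ← Fin.val_add, add_neg_cancel,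
          Fin.val_zero, sh_zero, C.cm_symm ha0 (sh_mem x _ hb0)] at h
        exact h
      rw [hb0d] at h0
      simp only [sh_mul, sh_sh] at h0
      rw [C.cm_mul_right ha0 (mul_mem (m _) (m _)) (m _), C.cm_mul_right ha0 (m _) (m _)] at h0
      rw [Fin.val_add, Fin.val_add, sh_mod hx, sh_mod hx]
      exact xor_false_three _ _ _ h0
  obtain ⟨s, hs⟩ := rec_shift (fun i => cm b0 (sh x i.val a0))
    (fun i => C.rec_right hx hb0 ha0 (d := 2) hA0 i) (fun i => C.rec_left hx hb0 ha0 (d := 1) hB0 i) hne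
  obtain ⟨a, haz, hak, hae, ha2⟩ := C.exact_half hx ha0 (d := 2) hA0 (isoA ha0 ha0 hA0 hA0)
  obtain ⟨b1, hbz, hbk, hbe, hb2⟩ := C.exact_half hx hb0 (d := 1) hB0 (isoB hb0 hb0 hB0 hB0)
  have hbs : sh x 3 (sh x s.val b1) = sh x s.val b1 * sh x 1 (sh x s.val b1) := by
    rw [sh_sh, Nat.add_comm 3, ← sh_sh x s.val 3, show sh x 3 b1 = b1 * sh x 1 b1 from hbe, sh_mul, sh_sh, sh_sh,
      Nat.add_comm 1]
  refine ⟨a, sh x s.val b1, hak, sh_mem x _ hbk, ha2, ?_, hae, hbs, fun i => ?_, fun i => ?_, fun i => ?_⟩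
  · rw [← sh_mul, hb2]; simp [sh]
  · rw [← sh_mod hx i]
    exact isoA hak hak (Or.inl hae) (Or.inl hae) ⟨i % 7, Nat.mod_lt _ (by norm_num)⟩
  · rw [← sh_mod hx i]
    exact isoB (sh_mem x _ hbk) (sh_mem x _ hbk) (Or.inl hbs) (Or.inl hbs) ⟨i % 7, Nat.mod_lt _ (by norm_num)⟩
  · rw [← sh_mod hx i]
    set j : Fin 7 := ⟨i % 7, Nat.mod_lt _ (by norm_num)⟩ with hj
    rw [← hs j]
    show cm (sh x s.val b1) (sh x j.val a) = cm b0 (sh x (j - s).val a0)
    have hsa : zeq z (sh x j.val a0) (sh x j.val a) := by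
      rcases haz with h | h
      · exact Or.inl (by rw [h])
      · exact Or.inr (by rw [h, sh_mul]; congr 1; rw [sh, C.zcen, mul_inv_cancel_right])
    have hsb : zeq z (sh x s.val b0) (sh x s.val b1) := by
      rcases hbz with h | h
      · exact Or.inl (by rw [h])
      · exact Or.inr (by rw [h, sh_mul]; congr 1; rw [sh, C.zcen, mul_inv_cancel_right])
    rw [← C.cm_zeq (sh_mem x _ hbk) (sh_mem x _ hak) hsb, C.cm_symm (sh_mem x _ hak) (sh_mem x _ hb0),
      ← C.cm_zeq (sh_mem x _ hak) (sh_mem x _ hb0) hsa, C.cm_symm (sh_mem x _ hb0) (sh_mem x _ ha0),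
      C.cm_sh_sub hx hb0 ha0]
    have e : ∀ j s : Fin 7, (j.val + (7 - s.val % 7)) % 7 = (j - s).val := by decide
    rw [e]

end CfsgLib.InvChar.HeRec.BFrame
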