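import Mathlib.GroupTheory.Sylow
import Mathlib.GroupTheory.SpecificGroups.Cyclic
import Mathlib.LinearAlgebra.Matrix.SpecialLinearGroup
import Mathlib.LinearAlgebra.Matrix.Notation

/-!
# Lifting three generators of the quotient of the involution centraliser
-/

set_option autoImplicit false
set_option linter.style.haveILetI false
set_option maxRecDepth 100000

namespace CfsgLib.InvChar.HeRec.BFrame

open Subgroup

variable {H L : Type*} [Group H] [Finite H] [Group L]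

/-- Elements of prime order with the same image are conjugate by an element whose image centralises theirs. -/
theorem exists_conj_eq (π : H →* L) (p : ℕ) [hp : Fact p.Prime] (hk : ¬ p ∣ Nat.card π.ker) {a b : H}
    (ha : orderOf a = p) (hb : orderOf b = p) (hab : π a = π b) :
    ∃ k : H, k * a * k⁻¹ = b ∧ π k * π a = π a * π k := by
  classical
  have hka : π a ≠ 1 := fun h => hk (by
    have h5 := orderOf_dvd_natCard (⟨a, π.mem_ker.2 h⟩ : π.ker)
    rwa [Subgroup.orderOf_mk, ha] at h5)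
  have hoa : orderOf (π a) = p := orderOf_eq_prime (by rw [← map_pow, ← ha, pow_orderOf_eq_one, map_one]) hka
  haveI : Finite (zpowers (π a)) := Nat.finite_of_card_ne_zero (by
    rw [Nat.card_zpowers, hoa]
    exact hp.out.ne_zero)
  set K := (zpowers (π a)).comap π with hK
  have haK : a ∈ K := mem_comap.2 (mem_zpowers _)
  have hbK : b ∈ K := mem_comap.2 (hab ▸ mem_zpowers _)
  have pgr : ∀ {x : K}, orderOf (x : H) = p → IsPGroup p (zpowers x) := fun {x} hx =>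
    IsPGroup.of_card (n := 1) (by rw [Nat.card_zpowers, ← Subgroup.orderOf_coe, hx, pow_one])
  have eqz : ∀ {x : K}, orderOf (x : H) = p → ∀ P : Sylow p K, zpowers x ≤ P → (P : Subgroup K) = zpowers x := by
    intro x hx P hP
    refine (eq_of_le_of_card_ge hP ?_).symm
    rw [Nat.card_zpowers, ← Subgroup.orderOf_coe, hx]
    have hinj : Function.Injective fun u : P => (⟨π (u.1 : H), mem_comap.1 u.1.2⟩ : zpowers (π a)) := by
      intro u v huv
      have h1 : π ((u.1 : H)⁻¹ * (v.1 : H)) = 1 := by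
        have h2 : π (u.1 : H) = π (v.1 : H) := congrArg Subtype.val huv
        rw [map_mul, map_inv, h2, inv_mul_cancel]
      obtain ⟨k, hk'⟩ := P.2 (u⁻¹ * v)
      have h2 : orderOf ((u.1 : H)⁻¹ * (v.1 : H)) ∣ p ^ k := orderOf_dvd_of_pow_eq_one (by
        have h3 := congrArg (fun w : P => (w.1 : H)) hk'
        simpa using h3)
      have h4 : orderOf ((u.1 : H)⁻¹ * (v.1 : H)) ∣ Nat.card π.ker := by
        have h5 := orderOf_dvd_natCard (⟨_, π.mem_ker.2 h1⟩ : π.ker)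
        rwa [Subgroup.orderOf_mk] at h5
      have h6 := Nat.eq_one_of_dvd_coprimes (((hp.out.coprime_iff_not_dvd).2 hk).pow_left k) h2 h4
      exact Subtype.ext (Subtype.ext (inv_mul_eq_one.1 (orderOf_eq_one_iff.1 h6)))
    calc Nat.card P ≤ Nat.card (zpowers (π a)) := Nat.card_le_card_of_injective _ hinj
      _ = p := by rw [Nat.card_zpowers, hoa]
  obtain ⟨P, hP⟩ := (pgr (x := ⟨a, haK⟩) ha).exists_le_sylow
  obtain ⟨R, hR⟩ := (pgr (x := ⟨b, hbK⟩) hb).exists_le_sylow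
  obtain ⟨g, hg⟩ := MulAction.exists_smul_eq K P R
  have hmem : g * ⟨a, haK⟩ * g⁻¹ ∈ zpowers (⟨b, hbK⟩ : K) := by
    have e := congrArg (fun S : Sylow p K => (S : Subgroup K)) hg
    simp only [Sylow.smul_def, Sylow.pointwise_smul_def] at e
    rw [← eqz (x := ⟨b, hbK⟩) hb R hR, ← e]
    exact ⟨⟨a, haK⟩, hP (mem_zpowers _), rfl⟩
  obtain ⟨i, hi⟩ := hmem
  have hgc : π (g : H) * π a = π a * π (g : H) := by
    obtain ⟨j, hj⟩ := mem_comap.1 g.2
    rw [show π (g : H) = π a ^ j from hj.symm]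
    exact (Commute.self_zpow _ _).symm.eq
  have hval : (g : H) * a * (g : H)⁻¹ = b ^ i := by
    have h := congrArg Subtype.val hi
    simpa using h.symm
  refine ⟨g, ?_, hgc⟩
  have h1 : π b ^ i = π b := by
    rw [← map_zpow, ← hval, map_mul, map_mul, map_inv, hgc, mul_inv_cancel_right, hab]
  have h2 : (orderOf b : ℤ) ∣ i - 1 := by
    have h3 : π b ^ (i - 1) = 1 := by rw [zpow_sub_one, h1, mul_inv_cancel]
    have h4 := orderOf_dvd_iff_zpow_eq_one.2 h3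
    rwa [← hab, hoa, ← hb] at h4
  have h5 := orderOf_dvd_iff_zpow_eq_one.1 h2
  rw [hval, show i = (i - 1) + 1 by ring, zpow_add, h5, one_mul, zpow_one]

open Matrix

/-- The quotient group. -/
abbrev L168 := Matrix.SpecialLinearGroup (Fin 3) (ZMod 2)

/-- The image of `x`. -/
def lX : L168 := ⟨!![0, 1, 1; 1, 1, 0; 1, 0, 0], by decide⟩

/-- The image of `y`. -/
def lY : L168 := ⟨!![1, 0, 1; 1, 1, 1; 1, 0, 0], by decide⟩

/-- The image of `w`. -/
def lW : L168 := ⟨!![0, 0, 1; 1, 1, 1; 1, 0, 0], by decide⟩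

theorem l_rel : lX ^ 7 = 1 ∧ lX ≠ 1 ∧ lY ^ 3 = 1 ∧ lY ≠ 1 ∧ lW * lW = 1 ∧ lY * lX * lY⁻¹ = lX ^ 2 ∧
    lW * lY * lW⁻¹ = lY⁻¹ ∧ (lX * lW) ^ 3 = 1 := by decide +kernel

theorem l_gen : ∀ M : L168, ∃ i : Fin 7, ∃ j : Fin 3, M = lX ^ i.val * lY ^ j.val ∨
    ∃ k : Fin 7, M = lX ^ i.val * lY ^ j.val * lW * lX ^ k.val := by decide +kernel

/-- The three lifts: `x` of order seven, `y` of order three, `w`, with the relations of the quotient that
hold exactly. -/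
structure Lifts (π : H →* L168) (x y w : H) : Prop where
  hx : π x = lX
  hy : π y = lY
  hw : π w = lW
  x7 : x ^ 7 = 1
  y3 : y ^ 3 = 1
  yx : y * x * y⁻¹ = x ^ 2
  wy : w * y * w⁻¹ = y⁻¹

theorem exists_lifts (π : H →* L168) (hπ : Function.Surjective π) (hk : Nat.card π.ker = 2 ^ 7)
    (h4 : ∀ q ∈ π.ker, q ^ 4 = 1) : ∃ x y w : H, Lifts π x y w := by
  obtain ⟨r7, rX1, r3, rY1, rW, ryx, rwy, -⟩ := l_rel
  haveI : Fact (Nat.Prime 7) := ⟨by decide⟩
  haveI : Fact (Nat.Prime 3) := ⟨by decide⟩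
  have hk7 : ¬ 7 ∣ Nat.card π.ker := by rw [hk]; decide
  have hk3 : ¬ 3 ∣ Nat.card π.ker := by rw [hk]; decide
  obtain ⟨x0, hx0⟩ := hπ lX
  have hx1 : π (x0 ^ 8) = lX := by rw [map_pow, hx0, pow_succ, r7, one_mul]
  have hx7 : (x0 ^ 8) ^ 7 = 1 := by
    rw [← pow_mul, show 8 * 7 = 7 * 4 * 2 from rfl, pow_mul, pow_mul,
      h4 _ (π.mem_ker.2 (by rw [map_pow, hx0, r7])), one_pow]
  set x := x0 ^ 8
  have hox : orderOf x = 7 := orderOf_eq_prime hx7 fun h => rX1 (by rw [← hx1, h, map_one])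
  obtain ⟨y0, hy0⟩ := hπ lY
  have ha : orderOf (y0 * x * y0⁻¹) = 7 := by rw [← MulAut.conj_apply, MulEquiv.orderOf_eq, hox]
  have hb : orderOf (x ^ 2) = 7 := by rw [orderOf_pow' x (by norm_num), hox]; rfl
  obtain ⟨k, hk1, hk2⟩ := exists_conj_eq π 7 hk7 ha hb (by
    rw [map_mul, map_mul, map_inv, hy0, hx1, ryx, map_pow, hx1])
  -- the image of `k` commutes with `lX ^ 2`, so it is a power of `lX`
  have hkim : π k * lX ^ 2 = lX ^ 2 * π k := by
    rwa [map_mul, map_mul, map_inv, hy0, hx1, ryx] at hk2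
  have hcX : ∀ M : L168, M * lX ^ 2 = lX ^ 2 * M → ∃ i : Fin 7, M = lX ^ i.val := by decide +kernel
  obtain ⟨i, hi⟩ := hcX _ hkim
  have hcomm : (x ^ i.val)⁻¹ * x ^ 2 * x ^ i.val = x ^ 2 := by
    rw [mul_assoc, ← (Commute.pow_pow_self x i.val 2).eq, inv_mul_cancel_left]
  obtain ⟨y1, hy1, hy1x⟩ : ∃ y1, π y1 = lY ∧ y1 * x * y1⁻¹ = x ^ 2 := by
    refine ⟨(x ^ i.val)⁻¹ * k * y0, ?_, ?_⟩
    · rw [map_mul, map_mul, map_inv, map_pow, hx1, hi, inv_mul_cancel, one_mul, hy0]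
    · calc (x ^ i.val)⁻¹ * k * y0 * x * ((x ^ i.val)⁻¹ * k * y0)⁻¹
          = (x ^ i.val)⁻¹ * (k * (y0 * x * y0⁻¹) * k⁻¹) * x ^ i.val := by group
        _ = x ^ 2 := by rw [hk1, hcomm]
  set y := y1 ^ 4 with hy
  have hy' : π y = lY := by rw [hy, map_pow, hy1, pow_succ, r3, one_mul]
  have hy3 : y ^ 3 = 1 := by
    rw [hy, ← pow_mul, show 4 * 3 = 3 * 4 from rfl, pow_mul, h4 _ (π.mem_ker.2 (by rw [map_pow, hy1, r3]))]
  have hyx : y * x * y⁻¹ = x ^ 2 := by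
    have e : ∀ n, y1 ^ n * x * (y1 ^ n)⁻¹ = x ^ (2 ^ n) := by
      intro n
      induction n with
      | zero => simp
      | succ n ih =>
        rw [pow_succ' y1, show y1 * y1 ^ n * x * (y1 * y1 ^ n)⁻¹ = y1 * (y1 ^ n * x * (y1 ^ n)⁻¹) * y1⁻¹ by group,
          ih, ← conj_pow, hy1x, ← pow_mul, ← pow_succ']
    rw [hy, e 4, pow_eq_pow_mod _ hx7]; norm_num
  have hoy : orderOf y = 3 := orderOf_eq_prime hy3 fun h => rY1 (by rw [← hy', h, map_one])
  obtain ⟨w0, hw0⟩ := hπ lW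
  have ha' : orderOf (w0 * y * w0⁻¹) = 3 := by rw [← MulAut.conj_apply, MulEquiv.orderOf_eq, hoy]
  have hb' : orderOf y⁻¹ = 3 := by rw [orderOf_inv, hoy]
  obtain ⟨k', hk1', hk2'⟩ := exists_conj_eq π 3 hk3 ha' hb' (by
    rw [map_mul, map_mul, map_inv, hw0, hy', rwy, map_inv, hy'])
  have hkim' : π k' * lY⁻¹ = lY⁻¹ * π k' := by
    rwa [map_mul, map_mul, map_inv, hw0, hy', rwy] at hk2'
  have hcY : ∀ M : L168, M * lY⁻¹ = lY⁻¹ * M → ∃ j : Fin 3, M = lY ^ j.val := by decide +kernel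
  obtain ⟨j, hj⟩ := hcY _ hkim'
  refine ⟨x, y, (y ^ j.val)⁻¹ * k' * w0, hx1, hy', ?_, hx7, hy3, hyx, ?_⟩
  · rw [map_mul, map_mul, map_inv, map_pow, hy', hj, inv_mul_cancel, one_mul, hw0]
  · calc (y ^ j.val)⁻¹ * k' * w0 * y * ((y ^ j.val)⁻¹ * k' * w0)⁻¹
        = (y ^ j.val)⁻¹ * (k' * (w0 * y * w0⁻¹) * k'⁻¹) * y ^ j.val := by group
      _ = y⁻¹ := by rw [hk1']; group

end CfsgLib.InvChar.HeRec.BFrame
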