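import Cfsg.Agent.Lib.InvChar.HeRec.BFrame.Lift

/-!
# The commutator form and the fixed points of the element of order seven
-/

set_option autoImplicit false

namespace CfsgLib.InvChar.HeRec.BFrame

open Subgroup

variable {H : Type*} [Group H]

/-- The normal subgroup `π.ker` is extraspecial of order `2 ^ 7` with centre `{1, z}` and contains its centraliser. -/
structure Ctx (π : H →* L168) (z : H) : Prop where
  zcen : ∀ h : H, h * z = z * h
  zz : z * z = 1
  z1 : z ≠ 1
  card : Nat.card π.ker = 2 ^ 7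
  sq : ∀ q ∈ π.ker, q * q = 1 ∨ q * q = z
  comm : ∀ p ∈ π.ker, ∀ q ∈ π.ker, p * q = q * p ∨ p * q = q * p * z
  cen : ∀ h : H, (∀ q ∈ π.ker, h * q = q * h) → h = 1 ∨ h = z

variable {π : H →* L168} {z : H} (C : Ctx π z)

/-- Two elements commute (`false`) or not (`true`). -/
noncomputable def cm (p q : H) : Bool := by classical exact decide (p * q ≠ q * p)

/-- `z` to a Boolean power. -/
def zb (z : H) (b : Bool) : H := if b then z else 1

theorem zb_false (z : H) : zb z false = 1 := rfl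
theorem zb_true (z : H) : zb z true = z := rfl

include C

theorem Ctx.z_mem : z ∈ π.ker := by
  by_contra h
  have h1 : Subgroup.center L168 = ⊥ := by
    rw [eq_bot_iff]
    intro M hM
    rw [mem_bot]
    have : ∀ M : L168, M * lX = lX * M → M * lY = lY * M → M = 1 := by decide +kernel
    exact this M (mem_center_iff.1 hM lX).symm (mem_center_iff.1 hM lY).symm
  obtain hq | hq := C.cen z (fun q _ => (C.zcen q).symm)
  · exact C.z1 hq
  obtain ⟨x, hx⟩ : ∃ x : π.ker, x ≠ 1 := by
    haveI : Finite π.ker := Nat.finite_of_card_ne_zero (by rw [C.card]; norm_num)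
    haveI := Finite.one_lt_card_iff_nontrivial.1 (show 1 < Nat.card π.ker by rw [C.card]; norm_num)
    exact exists_ne 1
  obtain h2 | h2 := C.sq x x.2
  · by_cases hc : ∀ q ∈ π.ker, (x : H) * q = q * x
    · obtain h3 | h3 := C.cen x hc
      · exact hx (Subtype.ext h3)
      · exact h (h3 ▸ x.2)
    · push Not at hc
      obtain ⟨q, hq, hne⟩ := hc
      obtain h3 | h3 := C.comm x x.2 q hq
      · exact hne h3
      · exact h ((Subgroup.mul_mem_cancel_left _ (mul_mem hq x.2)).1 (h3 ▸ mul_mem x.2 hq))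
  · exact h (h2 ▸ mul_mem x.2 x.2)

theorem Ctx.zb_mem (b : Bool) : zb z b ∈ π.ker := by
  cases b
  · exact one_mem _
  · exact C.z_mem

theorem Ctx.zb_mul (a b : Bool) : zb z a * zb z b = zb z (xor a b) := by
  cases a <;> cases b <;> simp [zb, C.zz]

theorem Ctx.zb_comm (a : Bool) (h : H) : h * zb z a = zb z a * h := by
  cases a <;> simp [zb, C.zcen h]

theorem Ctx.zb_inj {a b : Bool} (h : zb z a = zb z b) : a = b := by
  cases a <;> cases b <;> simp [zb] at h ⊢
  · exact C.z1 h.symm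
  · exact C.z1 h

theorem Ctx.swap {p q : H} (hp : p ∈ π.ker) (hq : q ∈ π.ker) : p * q = q * p * zb z (cm p q) := by
  unfold cm
  by_cases h : p * q = q * p
  · simp [h, zb]
  · simp only [ne_eq, h, not_false_eq_true, decide_true, zb, if_true]
    exact (C.comm p hp q hq).resolve_left h

theorem Ctx.cm_eq {p q : H} (hp : p ∈ π.ker) (hq : q ∈ π.ker) {b : Bool} (h : p * q = q * p * zb z b) :
    cm p q = b := C.zb_inj (mul_left_cancel ((C.swap hp hq).symm.trans h))

theorem Ctx.cm_mul_left {p p' q : H} (hp : p ∈ π.ker) (hp' : p' ∈ π.ker) (hq : q ∈ π.ker) :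
    cm (p * p') q = xor (cm p q) (cm p' q) := by
  refine C.cm_eq (mul_mem hp hp') hq ?_
  rw [mul_assoc, C.swap hp' hq, ← mul_assoc, ← mul_assoc, C.swap hp hq, ← C.zb_mul, mul_assoc (q * p),
    ← C.zb_comm _ p', ← mul_assoc, ← mul_assoc, ← mul_assoc]

theorem Ctx.cm_symm {p q : H} (hp : p ∈ π.ker) (hq : q ∈ π.ker) : cm q p = cm p q := by
  refine C.cm_eq hq hp ?_
  rw [C.swap hp hq, mul_assoc, C.zb_mul, Bool.xor_self, zb_false, mul_one]

theorem Ctx.cm_mul_right {p q q' : H} (hp : p ∈ π.ker) (hq : q ∈ π.ker) (hq' : q' ∈ π.ker) :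
    cm p (q * q') = xor (cm p q) (cm p q') := by
  rw [C.cm_symm (mul_mem hq hq') hp, C.cm_mul_left hq hq' hp, C.cm_symm hp hq, C.cm_symm hp hq']

theorem Ctx.cm_zb {b : Bool} {q : H} (hq : q ∈ π.ker) : cm (zb z b) q = false :=
  C.cm_eq (C.zb_mem b) hq (by rw [zb_false, mul_one, C.zb_comm])

theorem Ctx.cm_self {p : H} (hp : p ∈ π.ker) : cm p p = false :=
  C.cm_eq hp hp (by rw [zb_false, mul_one])

theorem Ctx.cm_conj (g : H) {p q : H} (hp : p ∈ π.ker) (hq : q ∈ π.ker) :
    cm (g * p * g⁻¹) (g * q * g⁻¹) = cm p q := by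
  refine C.cm_eq ((MonoidHom.normal_ker π).conj_mem p hp g) ((MonoidHom.normal_ker π).conj_mem q hq g) ?_
  calc g * p * g⁻¹ * (g * q * g⁻¹) = g * (p * q) * g⁻¹ := by group
    _ = g * (q * p * zb z (cm p q)) * g⁻¹ := by rw [← C.swap hp hq]
    _ = g * (q * p) * (zb z (cm p q) * g⁻¹) := by group
    _ = g * (q * p) * (g⁻¹ * zb z (cm p q)) := by rw [C.zb_comm]
    _ = g * q * g⁻¹ * (g * p * g⁻¹) * zb z (cm p q) := by group

/-- An element of the kernel commuting with all of it is central. -/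
theorem Ctx.exists_cm {w : H} (hw : w ∈ π.ker) (h1 : w ≠ 1) (h2 : w ≠ z) : ∃ q ∈ π.ker, cm w q = true := by
  by_contra hc
  push Not at hc
  rcases C.cen w (fun q hq => by
    rw [C.swap hw hq, Bool.eq_false_of_not_eq_true (hc q hq), zb_false, mul_one]) with h | h
  · exact h1 h
  · exact h2 h

theorem Ctx.fix_mem {x w : H} (hx7 : x ^ 7 = 1) (hw : w ∈ π.ker) (h : x * w * x⁻¹ = w ∨ x * w * x⁻¹ = w * z) :
    x * w * x⁻¹ = w := by
  rcases h with h | h
  · exact h
  exfalso
  have key : ∀ n, x ^ n * w * (x ^ n)⁻¹ = w * z ^ n := by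
    intro n
    induction n with
    | zero => simp
    | succ n ih =>
      calc x ^ (n + 1) * w * (x ^ (n + 1))⁻¹ = x * (x ^ n * w * (x ^ n)⁻¹) * x⁻¹ := by
            rw [pow_succ']; group
        _ = x * w * (z ^ n * x⁻¹) := by rw [ih]; group
        _ = x * w * (x⁻¹ * z ^ n) := by
            rw [(show Commute z x⁻¹ from (C.zcen x⁻¹).symm).pow_left n |>.eq]
        _ = (x * w * x⁻¹) * z ^ n := by group
        _ = w * z ^ (n + 1) := by rw [h, pow_succ']; group
  have h7 := key 7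
  rw [hx7, one_mul, inv_one, mul_one] at h7
  have hz7 : z ^ 7 = z := by
    rw [show (7 : ℕ) = 2 * 3 + 1 from rfl, pow_succ, pow_mul, pow_two, C.zz, one_pow, one_mul]
  rw [hz7] at h7
  exact C.z1 (mul_left_cancel (a := w) (by rw [mul_one]; exact h7.symm))

end CfsgLib.InvChar.HeRec.BFrame
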